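import Cfsg.Agent.U34Sylow.LocalBound.Quot

/-!
# Local bound: the orbit count

For a character of the group of class two with nontrivial constituent `θ`: orbit length times multiplicity
times the drop of the degree is at least 32.
-/

set_option autoImplicit false
set_option linter.style.haveILetI false
set_option linter.unusedSectionVars false
set_option linter.unusedVariables false

universe u

namespace CfsgLib.U34Sylow.LB

open Cfsg CfsgLib.Char Finset
open scoped ComplexConjugate Classical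

variable {C : Type u} [Group C] [Fintype C] {D : Two C}

theorem cj_inj {R : Subgroup C} {g : C} (hg : g ∈ Subgroup.normalizer (R : Set C)) {θ θ' : R → ℂ}
    (h : cj R g θ = cj R g θ') : θ = θ' := by
  have := congrArg (cj R g⁻¹) h
  rwa [cj_cj (inv_mem hg), cj_cj (inv_mem hg), inv_mul_cancel, cj_one, cj_one] at this

namespace Min

variable (M : Min D)
include M

/-- The stabiliser of `θ` in `S`. -/
noncomputable def stab (θ : M.R → ℂ) : Subgroup C where
  carrier := {s | s ∈ D.S ∧ cj M.R s θ = θ}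
  one_mem' := ⟨one_mem _, cj_one θ⟩
  mul_mem' {a b} ha hb := ⟨mul_mem ha.1 hb.1, by rw [← cj_cj (M.S_le ha.1), hb.2, ha.2]⟩
  inv_mem' {a} ha := ⟨inv_mem ha.1, by
    conv_lhs => rw [← ha.2]
    rw [cj_cj (inv_mem (M.S_le ha.1)), inv_mul_cancel, cj_one]⟩

theorem mem_stab {θ : M.R → ℂ} {s : C} : s ∈ M.stab θ ↔ s ∈ D.S ∧ cj M.R s θ = θ := Iff.rfl

theorem stab_le (θ : M.R → ℂ) : M.stab θ ≤ D.S := fun _ h => h.1

theorem z_mem_stab (θ : M.R → ℂ) : D.z ∈ M.stab θ :=
  ⟨D.Z_le D.z_mem, cj_of_central (fun r _ => (D.z_central r).symm) θ⟩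

/-- The orbit under `S`. -/
noncomputable def orbit (θ : M.R → ℂ) : Finset (M.R → ℂ) :=
  (univ.filter (· ∈ D.S)).image fun s => cj M.R s θ

theorem card_orbit (θ : M.R → ℂ) : (M.orbit θ).card * Nat.card (M.stab θ) = 64 := by
  rw [← D.card_S, Nat.card_eq_fintype_card (α := D.S), Fintype.card_subtype,
    Finset.card_eq_sum_card_image (fun s => cj M.R s θ) (univ.filter (· ∈ D.S)), orbit]
  rw [Finset.sum_congr rfl fun b hb => ?_, Finset.sum_const, smul_eq_mul]
  obtain ⟨s, hs, rfl⟩ := Finset.mem_image.1 hb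
  have hsS : s ∈ D.S := (mem_filter.1 hs).2
  rw [Nat.card_eq_fintype_card, Fintype.card_subtype]
  refine Finset.card_bij' (fun a _ => s⁻¹ * a) (fun a _ => s * a) ?_ ?_ (fun a _ => mul_inv_cancel_left s a)
    (fun a _ => inv_mul_cancel_left s a)
  · intro a ha
    simp only [mem_filter, mem_univ, true_and] at ha ⊢
    refine ⟨mul_mem (inv_mem hsS) ha.1, ?_⟩
    rw [← cj_cj (inv_mem (M.S_le hsS)), ha.2, cj_cj (inv_mem (M.S_le hsS)), inv_mul_cancel, cj_one]
  · intro a ha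
    simp only [mem_filter, mem_univ, true_and] at ha ⊢
    exact ⟨mul_mem hsS ha.1, by rw [← cj_cj (M.S_le hsS), ha.2]⟩

theorem mem_fS {g : C} {j : ℕ} {s : C} (hs : s ∈ D.S) (hg : g = D.f ^ j * s) :
    g ∈ Subgroup.normalizer (M.R : Set C) ∧ Commute g D.w := by
  subst hg
  exact ⟨mul_mem (pow_mem M.f_mem j) (M.S_le hs),
    (D.f_w.pow_left j).mul_left (D.central s hs _ D.w_mem)⟩

variable {φp φm : C → ℂ} {θ : M.R → ℂ}

/-- The estimate on any set of conjugates of `θ`. -/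
theorem estimate (hp : IsCharacter C φp) (hθ : IsIrrCharacter M.R θ) (O : Finset (M.R → ℂ))
    (hO : ∀ η ∈ O, ∃ j : ℕ, ∃ s ∈ D.S, η = cj M.R (D.f ^ j * s) θ) (c : ℝ)
    (hc1 : c ≤ (θ 1).re) (hc2 : cj M.R D.w θ = θ → c ≤ (θ 1).re - 1) :
    c * (O.card * mult M.R φp θ) ≤ (φp 1).re - |(φp D.w).re| := by
  have hwR : D.w ∉ M.R := fun h => D.w_ne (M.odd_sq h D.w_sq)
  have h := deg_bound M.R D.w_sq M.w_mem hwR (fun r hr => M.w_coset hr) O (fun η hη => by
      obtain ⟨j, s, hs, rfl⟩ := hO η hη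
      exact cj_irr (M.mem_fS hs rfl).1 hθ) c (fun η hη => by
      obtain ⟨j, s, hs, rfl⟩ := hO η hη
      rw [cj_one_apply]
      refine ⟨hc1, fun e => hc2 ?_⟩
      obtain ⟨hg, hgw⟩ := M.mem_fS hs (rfl : D.f ^ j * s = D.f ^ j * s)
      rw [cj_cj M.w_mem, ← hgw.eq, ← cj_cj hg] at e
      exact cj_inj hg e) hp
  rw [Finset.sum_congr rfl (fun η hη => ?_), Finset.sum_const, nsmul_eq_mul] at h
  · exact h
  · obtain ⟨j, s, hs, rfl⟩ := hO η hη
    exact mult_cj (IsCharacter.isClassFunction hp) (M.mem_fS hs rfl).1 θ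

/-- Five translates of the orbit. -/
theorem exists_five (θ : M.R → ℂ) {T : Subgroup C} (hZT : D.Z ≤ T) (hTS : T ≤ D.S) (h1 : T ≠ D.Z)
    (h2 : T ≠ D.S) (hsT : M.stab θ ≤ T) (hinv : ∀ g : C, (∀ x ∈ M.stab θ, g * x * g⁻¹ ∈ M.stab θ) →
      (∀ y ∈ D.Z, g * y * g⁻¹ = y) → ∀ x ∈ T, g * x * g⁻¹ ∈ T) :
    ∃ O : Finset (M.R → ℂ), O.card = 5 * (M.orbit θ).card ∧
      ∀ η ∈ O, ∃ j : ℕ, ∃ s ∈ D.S, η = cj M.R (D.f ^ j * s) θ := by
  refine ⟨(Finset.range 5).biUnion fun j => (M.orbit θ).image (cj M.R (D.f ^ j)), ?_, ?_⟩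
  · rw [Finset.card_biUnion]
    · rw [Finset.sum_congr rfl fun j _ => Finset.card_image_of_injective _
        (fun a b h => cj_inj (pow_mem M.f_mem j) h), Finset.sum_const, Finset.card_range, smul_eq_mul]
    intro i hi j hj hij
    simp only [Function.onFun, Finset.disjoint_left]
    intro η hη hη'
    obtain ⟨a, ha, rfl⟩ := Finset.mem_image.1 hη
    obtain ⟨b, hb, hb'⟩ := Finset.mem_image.1 hη'
    obtain ⟨s, hs, rfl⟩ := Finset.mem_image.1 ha
    obtain ⟨s', hs', rfl⟩ := Finset.mem_image.1 hb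
    have hsS : s ∈ D.S := (mem_filter.1 hs).2
    have hs'S : s' ∈ D.S := (mem_filter.1 hs').2
    simp only [Finset.coe_range, Set.mem_Iio] at hi hj
    -- one of the two powers divides the other
    have main : ∀ i j : ℕ, i < j → j < 5 → ∀ s ∈ D.S, ∀ s' ∈ D.S,
        cj M.R (D.f ^ j) (cj M.R s' θ) = cj M.R (D.f ^ i) (cj M.R s θ) → False := by
      intro i j hlt hj s hs s' hs' he
      obtain ⟨d, rfl⟩ : ∃ d, j = i + d := ⟨j - i, by omega⟩
      have hd : ¬ 5 ∣ d := by omega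
      rw [pow_add, ← cj_cj (pow_mem M.f_mem i)] at he
      have he' := cj_inj (pow_mem M.f_mem i) he
      have hg : cj M.R (s⁻¹ * (D.f ^ d * s')) θ = θ := by
        rw [← cj_cj (inv_mem (M.S_le hs)), ← cj_cj (pow_mem M.f_mem d), he',
          cj_cj (inv_mem (M.S_le hs)), inv_mul_cancel, cj_one]
      set g := s⁻¹ * (D.f ^ d * s') with hgdef
      have hgR : g ∈ Subgroup.normalizer (M.R : Set C) :=
        mul_mem (inv_mem (M.S_le hs)) (mul_mem (pow_mem M.f_mem d) (M.S_le hs'))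
      have hgS : g ∈ Subgroup.normalizer (D.S : Set C) :=
        mul_mem (inv_mem (Subgroup.le_normalizer hs))
          (mul_mem (pow_mem D.f_mem d) (Subgroup.le_normalizer hs'))
      have hgi : cj M.R g⁻¹ θ = θ := by
        conv_lhs => rw [← hg]
        rw [cj_cj (inv_mem hgR), inv_mul_cancel, cj_one]
      have hgst : ∀ x ∈ M.stab θ, g * x * g⁻¹ ∈ M.stab θ := fun x hx => by
        refine ⟨(Subgroup.mem_normalizer_iff.1 hgS x).1 hx.1, ?_⟩
        rw [← cj_cj (mul_mem hgR (M.S_le hx.1)), hgi, ← cj_cj hgR, hx.2, hg]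
      have hgZ : ∀ y ∈ D.Z, g * y * g⁻¹ = y := fun y hy => by
        have e1 := (D.central s' hs' y hy).eq
        have e2 := (D.central s hs y hy).inv_left.eq
        calc g * y * g⁻¹ = s⁻¹ * (D.f ^ d * (s' * y * s'⁻¹) * (D.f ^ d)⁻¹) * s := by
              rw [hgdef]; group
          _ = y := by rw [e1, mul_inv_cancel_right, D.conj_Z hy d, e2, inv_mul_cancel_right]
      have hS : ∀ a ∈ D.S, ∀ x ∈ T, a * x * a⁻¹ ∈ T := fun a ha x hx => by
        rw [show a * x * a⁻¹ = (a * x * a⁻¹ * x⁻¹) * x by group]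
        exact mul_mem (hZT (D.comm_mem ha (hTS hx))) hx
      have hgT := hinv g hgst hgZ
      refine (D.eq_Z_or_S hZT hTS hd fun x hx => ?_).elim h1 h2
      rw [show D.f ^ d * x * (D.f ^ d)⁻¹ = s * (g * (s'⁻¹ * x * s'⁻¹⁻¹) * g⁻¹) * s⁻¹ by
        rw [hgdef]; group]
      exact hS s hs _ (hgT _ (hS _ (inv_mem hs') x hx))
    rcases lt_or_gt_of_ne hij with h | h
    · exact main i j h hj s hsS s' hs'S hb'
    · exact main j i h hi s' hs'S s hsS hb'.symm
  · intro η hη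
    simp only [Finset.mem_biUnion, Finset.mem_image, orbit, mem_filter, mem_univ, true_and] at hη
    obtain ⟨j, -, -, ⟨s, hs, rfl⟩, rfl⟩ := hη
    exact ⟨j, s, hs, cj_cj (pow_mem M.f_mem j) θ⟩

theorem orbit_conj {θ η : M.R → ℂ} (h : η ∈ M.orbit θ) :
    ∃ j : ℕ, ∃ s ∈ D.S, η = cj M.R (D.f ^ j * s) θ := by
  obtain ⟨s, hs, rfl⟩ := Finset.mem_image.1 h
  exact ⟨0, s, (mem_filter.1 hs).2, by rw [pow_zero, one_mul]⟩

/-- The degree of an irreducible character of a group between `Z` and `S` with `z ↦ -1`. -/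
theorem degree_of_comm {T : Subgroup C} (hTS : T ≤ D.S) (hzT : D.z ∈ T) (hT : 32 ≤ Nat.card T)
    (hZT : D.Z ≤ T) {ψ : T → ℂ} (hψ : IsIrrCharacter T ψ)
    (hz : (ψ ⟨D.z, hzT⟩).re = -(ψ 1).re) :
    ∃ n : ℕ, ψ 1 = n ∧ 2 ∣ n ∧ (T = D.S → 4 ∣ n) := by
  letI : Fintype T := Fintype.ofFinite _
  obtain ⟨n, hn0, hn⟩ := IsIrrCharacter.exists_degree hψ
  refine ⟨n, hn, ?_, ?_⟩
  · have hd : n ∣ 2 ^ 6 := (IsIrrCharacter.degree_dvd_card hψ hn).trans (by
      have := Subgroup.card_dvd_of_le hTS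
      rwa [D.card_S] at this)
    obtain ⟨k, -, rfl⟩ := (Nat.dvd_prime_pow Nat.prime_two).1 hd
    refine dvd_pow_self 2 fun hk => ?_
    rw [hk, pow_zero, Nat.cast_one] at hn
    obtain ⟨lam, hlam⟩ := IsCharacter.exists_hom (IsIrrCharacter.isCharacter hψ) hn
    simp only [hlam, map_one, Units.val_one, Complex.one_re] at hz
    have hlz : lam ⟨D.z, hzT⟩ ≠ 1 := fun e => by
      rw [e, Units.val_one, Complex.one_re] at hz; norm_num at hz
    obtain ⟨u, hu, hu1, huv⟩ : ∃ u ∈ D.Z, u ≠ 1 ∧ ∀ c : T, (c : C) ∈ D.Z → lam c = 1 →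
        (c : C) = 1 ∨ (c : C) = u := by
      by_cases hlw : lam ⟨D.w, hZT D.w_mem⟩ = 1
      · refine ⟨D.w, D.w_mem, D.w_ne, fun c hc hl => ?_⟩
        rcases D.mem_Z _ hc with e | e | e | e
        · exact Or.inl e
        · exact absurd (by rw [← hl]; exact congrArg lam (Subtype.ext e.symm)) hlz
        · exact Or.inr e
        · refine absurd ?_ hlz
          rw [show c = ⟨D.z, hzT⟩ * ⟨D.w, hZT D.w_mem⟩ from Subtype.ext e, map_mul, hlw,
            mul_one] at hl
          exact hl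
      · refine ⟨D.z * D.w, mul_mem D.z_mem D.w_mem, D.zw_ne_one, fun c hc hl => ?_⟩
        rcases D.mem_Z _ hc with e | e | e | e
        · exact Or.inl e
        · exact absurd (by rw [← hl]; exact congrArg lam (Subtype.ext e.symm)) hlz
        · exact absurd (by rw [← hl]; exact congrArg lam (Subtype.ext e.symm)) hlw
        · exact Or.inr e
    refine D.not_comm_le hZT hTS hT hu hu1 fun a ha b hb => ?_
    exact huv (⟨a, ha⟩ * ⟨b, hb⟩ * ⟨a, ha⟩⁻¹ * ⟨b, hb⟩⁻¹) (D.comm_mem (hTS ha) (hTS hb))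
      (by
        simp only [map_mul, map_inv]
        rw [mul_comm (lam ⟨a, ha⟩), mul_inv_cancel_right, mul_inv_cancel])
  · intro hTeq
    subst hTeq
    have hcen : ∀ y : D.S, (y : C) ∈ D.Z → y ∈ Subgroup.center D.S := fun y hy =>
      Subgroup.mem_center_iff.2 fun x => Subtype.ext (D.central x x.2 y hy).eq
    have h1r : (ψ 1).re = n := by rw [hn, Complex.natCast_re]
    have hzim : ψ ⟨D.z, hzT⟩ = -(n : ℂ) := by
      have h := IsIrrCharacter.apply_inv hψ (⟨D.z, hzT⟩ : D.S)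
      rw [show (⟨D.z, hzT⟩ : D.S)⁻¹ = ⟨D.z, hzT⟩ from Subtype.ext (D.inv_Z D.z_mem)] at h
      have h' := congrArg Complex.im h
      simp only [Complex.conj_im] at h'
      refine Complex.ext ?_ ?_
      · rw [hz, h1r, Complex.neg_re, Complex.natCast_re]
      · rw [Complex.neg_im, Complex.natCast_im, neg_zero]; linarith
    have hzero : ∀ x : D.S, (x : C) ∉ D.Z → ψ x = 0 := fun x hx => by
      obtain ⟨v, hv, hvx⟩ := D.full x x.2 hx D.z D.z_mem
      have e : (⟨v, hv⟩ : D.S) * x * (⟨v, hv⟩ : D.S)⁻¹ = ⟨D.z, hzT⟩ * x := Subtype.ext (by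
        show v * x * v⁻¹ = D.z * x
        rw [← hvx, inv_mul_cancel_right])
      have h := IsIrrCharacter.isClassFunction hψ x ⟨v, hv⟩
      rw [e, IsIrrCharacter.apply_center_mul hψ (hcen _ D.z_mem), hzim, hn,
        neg_div, div_self (Nat.cast_ne_zero.2 (by omega)), neg_one_mul] at h
      linear_combination (-(1 : ℂ) / 2) * h
    have h1 := classInner_self ψ
    rw [IsIrrCharacter.classInner_self hψ] at h1
    have h1' : (1 : ℝ) = (Nat.card D.S : ℝ)⁻¹ * ∑ x : D.S, ‖ψ x‖ ^ 2 := by exact_mod_cast h1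
    rw [← Finset.sum_filter_add_sum_filter_not univ (fun x : D.S => (x : C) ∈ D.Z),
      Finset.sum_eq_zero (s := univ.filter fun x : D.S => ¬ (x : C) ∈ D.Z) (fun x hx => by
        rw [hzero x (mem_filter.1 hx).2, norm_zero, zero_pow two_ne_zero]), add_zero,
      Finset.sum_congr rfl (g := fun _ => (n : ℝ) ^ 2) (fun x hx => by
        have h := norm_center hψ (hcen x (mem_filter.1 hx).2)
        rw [norm_div, hn, Complex.norm_natCast, div_eq_one_iff_eq (Nat.cast_ne_zero.2 (by omega))] at h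
        rw [h]), Finset.sum_const, nsmul_eq_mul] at h1'
    have hc : (univ.filter fun x : D.S => (x : C) ∈ D.Z).card = 4 := by
      rw [← D.card_Z, ← Nat.card_congr (Subgroup.subgroupOfEquivOfLe D.Z_le).toEquiv,
        Nat.card_eq_fintype_card, Fintype.card_subtype]
      rfl
    rw [hc, D.card_S] at h1'
    have h16 : n ^ 2 = 16 := by
      have h1'' : (1 : ℝ) = (64 : ℝ)⁻¹ * (4 * (n : ℝ) ^ 2) := by exact_mod_cast h1'
      have : ((n ^ 2 : ℕ) : ℝ) = ((16 : ℕ) : ℝ) := by push_cast; linarith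
      exact_mod_cast this
    have : n = 4 := Nat.pow_left_injective two_ne_zero (by simpa using h16)
    rw [this]

/-- The multiplicity of a character fixed by a large subgroup. -/
theorem mult_dvd (hm : IsCharacter C φm) (hmz : (φm D.z).re = -(φm 1).re) (hθ : IsIrrCharacter M.R θ)
    (hZT : D.Z ≤ M.stab θ) (hT : 32 ≤ Nat.card (M.stab θ)) :
    ∃ n : ℕ, mult M.R φm θ = n ∧ 2 ∣ n ∧ (M.stab θ = D.S → 4 ∣ n) := by
  set T := M.stab θ with hTdef
  set H := M.R ⊔ T with hH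
  have hTn : T ≤ Subgroup.normalizer (M.R : Set C) := (M.stab_le θ).trans M.S_le
  have hHn : H ≤ Subgroup.normalizer (M.R : Set C) := sup_le Subgroup.le_normalizer hTn
  have hzH : D.z ∈ H := le_sup_right (a := M.R) (M.z_mem_stab θ)
  have hfix : ∀ h ∈ H, cj M.R h θ = θ := by
    intro h hh
    rw [hH, sup_comm, ← SetLike.mem_coe, Subgroup.coe_mul_of_left_le_normalizer_right _ _ hTn] at hh
    obtain ⟨t, ht, r, hr, rfl⟩ := Set.mem_mul.1 hh
    rw [← cj_cj (hTn ht)]
    have e : cj M.R r θ = θ := by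
      rw [cj_eq (Subgroup.le_normalizer hr)]
      funext x
      have := IsIrrCharacter.isClassFunction hθ x ⟨r⁻¹, inv_mem hr⟩
      refine Eq.trans ?_ this
      congr 1
      exact Subtype.ext (by simp [cjEquiv])
    rw [e]
    exact ht.2
  obtain ⟨q, hq0, hq⟩ := IsIrrCharacter.exists_degree hθ
  have hqodd := M.odd_degree hθ hq
  letI : Fintype T := Fintype.ofFinite _
  letI : Fintype H := Fintype.ofFinite _
  have main : ∀ d : ℕ, d ∣ 4 → (∀ ψ : T → ℂ, IsIrrCharacter T ψ →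
      (ψ ⟨D.z, M.z_mem_stab θ⟩).re = -(ψ 1).re → ∃ n : ℕ, ψ 1 = n ∧ d ∣ n) →
      ∃ n : ℕ, mult M.R φm θ = n ∧ d ∣ n := by
    intro d hd hψ
    refine dvd_mult M.R H le_sup_left hHn hzH hθ hfix d ?_ ?_ hm hmz
    · intro q' hq'
      rw [show q' = q by exact_mod_cast (hq'.symm.trans hq)]
      refine Nat.Coprime.coprime_dvd_left hd ?_
      rw [show 4 = 2 ^ 2 from rfl]
      exact (Nat.coprime_two_left.2 hqodd).pow_left 2
    · intro ψ hψi hz
      have hc : IsCharacter T fun t => ψ (Subgroup.inclusion (le_sup_right : T ≤ H) t) :=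
        IsCharacter.comp (IsIrrCharacter.isCharacter hψi) _
      obtain ⟨n, hn, hdn⟩ := dvd_degree (z := (⟨D.z, M.z_mem_stab θ⟩ : T)) d hψ hc (by
        simp only [map_one]; exact hz)
      simp only [map_one] at hn
      exact ⟨n, hn, hdn⟩
  obtain ⟨n, hn, h2⟩ := main 2 (by norm_num) fun ψ hψ hz => by
    obtain ⟨k, hk, hk2, -⟩ := M.degree_of_comm (M.stab_le θ) (M.z_mem_stab θ) hT hZT hψ hz
    exact ⟨k, hk, hk2⟩
  refine ⟨n, hn, h2, fun hTS => ?_⟩
  obtain ⟨n', hn', h4⟩ := main 4 dvd_rfl fun ψ hψ hz => by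
    obtain ⟨k, hk, -, hk4⟩ := M.degree_of_comm (M.stab_le θ) (M.z_mem_stab θ) hT hZT hψ hz
    exact ⟨k, hk, hk4 hTS⟩
  rw [hn] at hn'
  rw [show n = n' by exact_mod_cast hn']
  exact h4

/-- `T Z`. -/
noncomputable def stabZ (θ : M.R → ℂ) : Subgroup C where
  carrier := {x | ∃ t ∈ M.stab θ, ∃ c ∈ D.Z, x = t * c}
  one_mem' := ⟨1, one_mem _, 1, one_mem _, (one_mul 1).symm⟩
  mul_mem' := by
    rintro a b ⟨t, ht, c, hc, rfl⟩ ⟨t', ht', c', hc', rfl⟩
    refine ⟨t * t', mul_mem ht ht', c * c', mul_mem hc hc', ?_⟩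
    have e := (D.central t' ht'.1 c hc).eq
    calc t * c * (t' * c') = t * (c * t') * c' := by group
      _ = _ := by rw [← e]; group
  inv_mem' := by
    rintro a ⟨t, ht, c, hc, rfl⟩
    exact ⟨t⁻¹, inv_mem ht, c⁻¹, inv_mem hc, by
      rw [mul_inv_rev]; exact ((D.central t ht.1 c hc).inv_inv).eq.symm⟩

/-- **The bound.** -/
theorem bound (hp : IsCharacter C φp) (hm : IsCharacter C φm) (hmz : (φm D.z).re = -(φm 1).re)
    (hθ : IsIrrCharacter M.R θ) (hθ1 : θ ≠ fun _ => 1) (heq : mult M.R φp θ = mult M.R φm θ)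
    (hne : mult M.R φp θ ≠ 0) : 32 ≤ (φp 1).re - |(φp D.w).re| := by
  obtain ⟨q, hq0, hq⟩ := IsIrrCharacter.exists_degree hθ
  have hqr : (θ 1).re = q := by rw [hq, Complex.natCast_re]
  obtain ⟨m, -, hm'⟩ := mult_nat hp hθ
  have hm1 : 1 ≤ m := Nat.pos_of_ne_zero fun e => hne (by rw [hm', e, Nat.cast_zero])
  set T := M.stab θ with hT
  have hcard := M.card_orbit θ
  rw [← hT] at hcard
  have est : ∀ (O : Finset (M.R → ℂ)),
      (∀ η ∈ O, ∃ j : ℕ, ∃ s ∈ D.S, η = cj M.R (D.f ^ j * s) θ) → ∀ c : ℕ, c ≤ q →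
      (cj M.R D.w θ = θ → c + 1 ≤ q) → 32 ≤ c * (O.card * m) →
      32 ≤ (φp 1).re - |(φp D.w).re| := by
    intro O hO c hc hc' h32
    have h := M.estimate hp hθ O hO (c : ℝ) (by rw [hqr]; exact_mod_cast hc) (fun e => by
      rw [hqr]
      have : ((c + 1 : ℕ) : ℝ) ≤ (q : ℕ) := by exact_mod_cast hc' e
      push_cast at this; linarith)
    rw [hm'] at h
    have : ((32 : ℕ) : ℝ) ≤ ((c * (O.card * m) : ℕ) : ℝ) := by exact_mod_cast h32
    push_cast at this
    linarith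
  have hwS : D.w ∈ D.S := D.Z_le D.w_mem
  by_cases hw : cj M.R D.w θ = θ
  · -- `w` fixes `θ`
    have hq1 : q ≠ 1 := fun e => hθ1 (M.linear_fixed hθ (by rw [hq, e, Nat.cast_one]) hw)
    have hq3 : 3 ≤ q := (M.degree_ge_three hθ hq hq1).2.trans (M.degree_ge_three hθ hq hq1).1
    have hZT : D.Z ≤ T := fun x hx => by
      rcases D.mem_Z x hx with rfl | rfl | rfl | rfl
      exacts [one_mem _, M.z_mem_stab θ, ⟨hwS, hw⟩, mul_mem (M.z_mem_stab θ) ⟨hwS, hw⟩]
    by_cases hTS : T = D.S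
    · have h9 := M.nine_le hθ (fun g hg => (show g ∈ M.stab θ by rw [← hT, hTS]; exact hg).2) hq hq1
      obtain ⟨n, hn, -, h4⟩ := M.mult_dvd hm hmz hθ hZT (by rw [← hT, hTS, D.card_S]; norm_num)
      rw [← heq, hm'] at hn
      have hn' : m = n := by exact_mod_cast hn
      have hm4 : 4 ≤ m := Nat.le_of_dvd hm1 (hn' ▸ h4 hTS)
      refine est (M.orbit θ) (fun η => M.orbit_conj) (q - 1) (by omega) (fun _ => by omega) ?_
      rw [hTS, D.card_S] at hcard
      have h1 : (M.orbit θ).card = 1 := by omega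
      rw [h1]
      calc 32 = 8 * (1 * 4) := rfl
        _ ≤ _ := Nat.mul_le_mul (by omega) (Nat.mul_le_mul_left 1 hm4)
    by_cases hTZ : T = D.Z
    · refine est (M.orbit θ) (fun η => M.orbit_conj) (q - 1) (by omega) (fun _ => by omega) ?_
      rw [hTZ, D.card_Z] at hcard
      have h1 : (M.orbit θ).card = 16 := by omega
      rw [h1]
      calc 32 = 2 * (16 * 1) := rfl
        _ ≤ _ := Nat.mul_le_mul (by omega) (Nat.mul_le_mul_left 16 hm1)
    obtain ⟨O, hOc, hO⟩ := M.exists_five θ hZT (M.stab_le θ) hTZ hTS le_rfl fun g h1 _ => h1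
    refine est O hO (q - 1) (by omega) (fun _ => by omega) ?_
    have hlt : Nat.card T ≤ 32 := D.card_le_of_lt (lt_of_le_of_ne (M.stab_le θ) hTS)
    have hdvd : Nat.card T ∣ 2 ^ 6 := by
      rw [show (2 : ℕ) ^ 6 = Nat.card D.S by rw [D.card_S]; norm_num]
      exact Subgroup.card_dvd_of_le (M.stab_le θ)
    obtain ⟨k, hk, hk'⟩ := (Nat.dvd_prime_pow Nat.prime_two).1 hdvd
    by_cases h32 : Nat.card T = 32
    · obtain ⟨n, hn, h2, -⟩ := M.mult_dvd hm hmz hθ hZT (by rw [← hT, h32])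
      rw [← heq, hm'] at hn
      have hn' : m = n := by exact_mod_cast hn
      have hm2 : 2 ≤ m := Nat.le_of_dvd hm1 (hn' ▸ h2)
      rw [h32] at hcard
      have : (M.orbit θ).card = 2 := by omega
      rw [hOc, this]
      calc 32 ≤ 2 * (5 * 2 * 2) := by norm_num
        _ ≤ _ := Nat.mul_le_mul (by omega) (Nat.mul_le_mul_left _ hm2)
    · have h16 : Nat.card T ≤ 16 := by
        rw [hk'] at hlt h32 ⊢
        interval_cases k <;> omega
      have : 4 ≤ (M.orbit θ).card := by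
        by_contra hl
        push Not at hl
        have := Nat.mul_le_mul (Nat.le_of_lt_succ hl) h16
        omega
      rw [hOc]
      calc 32 ≤ 2 * (5 * 4 * 1) := by norm_num
        _ ≤ _ := Nat.mul_le_mul (by omega) (Nat.mul_le_mul (Nat.mul_le_mul_left 5 this) hm1)
  · -- `w` moves `θ`
    have hwT : D.w ∉ T := fun h => hw h.2
    have hTZ : ∀ x ∈ T, x ∈ D.Z → x = 1 ∨ x = D.z := fun x hx hxZ => by
      rcases D.mem_Z x hxZ with e | e | e | e
      · exact Or.inl e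
      · exact Or.inr e
      · exact absurd (e ▸ hx) hwT
      · refine absurd ?_ hwT
        have := mul_mem (M.z_mem_stab θ) (e ▸ hx : D.z * D.w ∈ M.stab θ)
        rwa [← mul_assoc, D.z_sq, one_mul] at this
    by_cases hsub : T ≤ D.Z
    · have hle : Nat.card T ≤ 2 := by
        have h2 : (T : Set C) ⊆ {1, D.z} := fun x hx => by simpa using hTZ x hx (hsub hx)
        have := (Set.ncard_le_ncard h2).trans (Set.ncard_insert_le _ _)
        rw [Set.ncard_singleton] at this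
        exact this
      refine est (M.orbit θ) (fun η => M.orbit_conj) q le_rfl (fun e => absurd e hw) ?_
      have : 32 ≤ (M.orbit θ).card := by
        by_contra hl
        push Not at hl
        have := Nat.mul_le_mul (Nat.le_of_lt_succ hl) hle
        omega
      calc 32 = 1 * (32 * 1) := rfl
        _ ≤ _ := Nat.mul_le_mul hq0 (Nat.mul_le_mul this hm1)
    set T' := M.stabZ θ with hT'
    have hTT' : T ≤ T' := fun x hx => ⟨x, hx, 1, one_mem _, (mul_one x).symm⟩
    have hZT' : D.Z ≤ T' := fun x hx => ⟨1, one_mem _, x, hx, (one_mul x).symm⟩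
    have hT'S : T' ≤ D.S := by
      rintro x ⟨t, ht, c, hc, rfl⟩
      exact mul_mem ht.1 (D.Z_le hc)
    have hcomm : ∀ x ∈ T', ∀ y ∈ T', x * y * x⁻¹ * y⁻¹ = 1 ∨ x * y * x⁻¹ * y⁻¹ = D.z := by
      rintro x ⟨t, ht, c, hc, rfl⟩ y ⟨t', ht', c', hc', rfl⟩
      have e : t * c * (t' * c') * (t * c)⁻¹ * (t' * c')⁻¹ = t * t' * t⁻¹ * t'⁻¹ := by
        have e1 := D.central t ht.1 c hc
        have e2 := D.central t' ht'.1 c hc
        have e3 := D.central t ht.1 c' hc'
        have e4 := D.central t' ht'.1 c' hc'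
        calc t * c * (t' * c') * (t * c)⁻¹ * (t' * c')⁻¹
            = t * (c * t') * (c' * c⁻¹ * t⁻¹ * c'⁻¹) * t'⁻¹ := by group
          _ = t * (t' * c) * (t⁻¹ * (c' * c⁻¹) * c'⁻¹) * t'⁻¹ := by
              rw [← e2.eq, ((e3.mul_right e1.inv_right).inv_left).eq]
          _ = t * t' * (c * t⁻¹) * (c' * c⁻¹ * c'⁻¹) * t'⁻¹ := by group
          _ = _ := by
              rw [← e1.inv_left.eq,
                (D.central c' (D.Z_le hc') c⁻¹ (inv_mem hc)).eq]
              group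
      rw [e]
      exact hTZ _ (mul_mem (mul_mem (mul_mem ht ht') (inv_mem ht)) (inv_mem ht'))
        (D.comm_mem ht.1 ht'.1)
    have h16 : Nat.card T ≤ 8 := by
      by_contra h8
      push Not at h8
      refine D.not_comm_le hZT' hT'S ?_ D.z_mem D.z_ne hcomm
      have hlt : T < T' := lt_of_le_of_ne hTT' fun e => hwT (e ▸ hZT' D.w_mem)
      have hd := Subgroup.card_dvd_of_le hTT'
      obtain ⟨k, hk⟩ := hd
      have hne : k ≠ 1 := fun e => hlt.ne (Subgroup.eq_of_le_of_card_ge hTT' (by rw [hk, e, mul_one]))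
      have hk0 : k ≠ 0 := fun e => by rw [e, mul_zero] at hk; exact Nat.card_pos.ne' hk
      have h2 : 2 * Nat.card T ≤ Nat.card T' := by
        rw [hk, mul_comm (Nat.card T)]; exact Nat.mul_le_mul_right _ (by omega)
      have hT16 : 16 ≤ Nat.card T := by
        have hdvd : Nat.card T ∣ 2 ^ 6 := by
          rw [show (2 : ℕ) ^ 6 = Nat.card D.S by rw [D.card_S]; norm_num]
          exact Subgroup.card_dvd_of_le (M.stab_le θ)
        obtain ⟨i, hi, hi'⟩ := (Nat.dvd_prime_pow Nat.prime_two).1 hdvd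
        rw [hi'] at h8 ⊢
        interval_cases i <;> omega
      omega
    have hne1 : T' ≠ D.Z := fun e => hsub (hTT'.trans e.le)
    have hne2 : T' ≠ D.S := fun e => D.not_comm_le D.Z_le le_rfl (by rw [D.card_S]; norm_num)
      D.z_mem D.z_ne fun x hx y hy => hcomm x (e ▸ hx) y (e ▸ hy)
    obtain ⟨O, hOc, hO⟩ := M.exists_five θ hZT' hT'S hne1 hne2 hTT' fun g hg hgZ x hx => by
      obtain ⟨t, ht, c, hc, rfl⟩ := hx
      refine ⟨g * t * g⁻¹, hg t ht, c, hc, ?_⟩
      conv_rhs => rw [← hgZ c hc]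
      group
    refine est O hO q le_rfl (fun e => absurd e hw) ?_
    have : 8 ≤ (M.orbit θ).card := by
      by_contra hl
      push Not at hl
      have := Nat.mul_le_mul (Nat.le_of_lt_succ hl) h16
      omega
    rw [hOc]
    calc 32 ≤ 1 * (5 * 8 * 1) := by norm_num
      _ ≤ _ := Nat.mul_le_mul hq0 (Nat.mul_le_mul (Nat.mul_le_mul_left 5 this) hm1)

end Min

end CfsgLib.U34Sylow.LB
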