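import Cfsg.Agent.Char.Clifford
import Cfsg.Agent.Char.CenterValues
import Cfsg.Agent.Char.Values
import Cfsg.Agent.GW.CaseI.Inverted

/-!
# Local bound: eigenvalue bounds for an involution acting on a group of class two

For an involution `w` normalising `R` such that every `w r` is, up to a central element, conjugate to `w`,
an irreducible character of `R ⟨w⟩` takes at `w` a value of absolute value at most one, and it takes
one only if its restriction to `R` is irreducible.
-/

set_option autoImplicit false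
set_option linter.style.haveILetI false
set_option linter.unusedSectionVars false
set_option linter.unusedVariables false

universe u

namespace CfsgLib.U34Sylow.LB

open Cfsg CfsgLib.Char Finset
open scoped ComplexConjugate Classical

variable {C : Type u} [Group C] [Fintype C]

/-- The multiplicity in the restriction to `R`. -/
noncomputable def mult (R : Subgroup C) (φ : C → ℂ) (θ : R → ℂ) : ℝ :=
  (classInner (fun r : R => φ r) θ).re

theorem mult_nat {R : Subgroup C} {φ : C → ℂ} (hφ : IsCharacter C φ) {θ : R → ℂ}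
    (hθ : IsIrrCharacter R θ) : ∃ n : ℕ, classInner (fun r : R => φ r) θ = n ∧ mult R φ θ = n := by
  obtain ⟨n, hn⟩ := IsCharacter.exists_classInner_eq_natCast (IsCharacter.restrict hφ R) hθ
  exact ⟨n, hn, by rw [mult, hn, Complex.natCast_re]⟩

/-- The conjugate of a function on `R` by a normalising element, as a total function. -/
noncomputable def cj (R : Subgroup C) (g : C) (θ : R → ℂ) : R → ℂ :=
  fun r => if h : g⁻¹ * r * g ∈ R then θ ⟨g⁻¹ * r * g, h⟩ else 0

theorem cj_apply {R : Subgroup C} {g : C} (θ : R → ℂ) {r : R} (h : g⁻¹ * r * g ∈ R) :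
    cj R g θ r = θ ⟨g⁻¹ * r * g, h⟩ := dif_pos h

theorem conj_mem_of_normalizer {R : Subgroup C} {g : C} (hg : g ∈ Subgroup.normalizer (R : Set C))
    {r : C} (hr : r ∈ R) : g⁻¹ * r * g ∈ R := by
  have := (Subgroup.mem_normalizer_iff.1 (inv_mem hg) r).1 hr
  rwa [inv_inv] at this

theorem cj_cj {R : Subgroup C} {g h : C} (hg : g ∈ Subgroup.normalizer (R : Set C)) (θ : R → ℂ) :
    cj R g (cj R h θ) = cj R (g * h) θ := by
  funext r
  rw [cj_apply _ (conj_mem_of_normalizer hg r.2)]
  unfold cj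
  simp only [show (g * h)⁻¹ * (r : C) * (g * h) = h⁻¹ * (g⁻¹ * r * g) * h by group]

theorem cj_one {R : Subgroup C} (θ : R → ℂ) : cj R 1 θ = θ := by
  funext r
  rw [cj_apply _ (by simp)]
  congr 1
  ext; simp

theorem cj_of_central {R : Subgroup C} {g : C} (hg : ∀ r ∈ R, Commute g r) (θ : R → ℂ) :
    cj R g θ = θ := by
  funext r
  have e : g⁻¹ * (r : C) * g = r := by rw [mul_assoc, ← (hg r r.2).eq, inv_mul_cancel_left]
  rw [cj_apply _ (by rw [e]; exact r.2)]
  congr 1
  exact Subtype.ext e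

/-- Conjugation by a normalising element, as an automorphism of `R`. -/
def cjEquiv (R : Subgroup C) {g : C} (hg : g ∈ Subgroup.normalizer (R : Set C)) : R ≃* R where
  toFun r := ⟨g⁻¹ * r * g, conj_mem_of_normalizer hg r.2⟩
  invFun r := ⟨g * r * g⁻¹, (Subgroup.mem_normalizer_iff.1 hg r).1 r.2⟩
  left_inv r := Subtype.ext (by simp [mul_assoc])
  right_inv r := Subtype.ext (by simp [mul_assoc])
  map_mul' a b := Subtype.ext (by simp [mul_assoc])

theorem cj_eq {R : Subgroup C} {g : C} (hg : g ∈ Subgroup.normalizer (R : Set C)) (θ : R → ℂ) :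
    cj R g θ = fun r => θ (cjEquiv R hg r) :=
  funext fun r => cj_apply θ (conj_mem_of_normalizer hg r.2)

theorem cj_irr {R : Subgroup C} {g : C} (hg : g ∈ Subgroup.normalizer (R : Set C)) {θ : R → ℂ}
    (hθ : IsIrrCharacter R θ) : IsIrrCharacter R (cj R g θ) := by
  rw [cj_eq hg]
  exact IsIrrCharacter.comp_surjective hθ (cjEquiv R hg).toMonoidHom (cjEquiv R hg).surjective

theorem cj_one_apply {R : Subgroup C} {g : C} (θ : R → ℂ) : cj R g θ 1 = θ 1 := by
  rw [cj_apply θ (by simp)]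
  congr 1
  ext; simp

theorem mult_cj {R : Subgroup C} {φ : C → ℂ} (hφ : IsClassFunction C φ) {g : C}
    (hg : g ∈ Subgroup.normalizer (R : Set C)) (θ : R → ℂ) :
    mult R φ (cj R g θ) = mult R φ θ := by
  unfold mult classInner
  congr 2
  rw [cj_eq hg]
  refine Fintype.sum_equiv (cjEquiv R hg).toEquiv _ _ fun r => ?_
  congr 1
  have := hφ (r : C) g⁻¹
  rw [inv_inv] at this
  exact this.symm

theorem norm_center {G : Type u} [Group G] [Finite G] {ψ : G → ℂ} (hψ : IsIrrCharacter G ψ) {d : G}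
    (hd : d ∈ Subgroup.center G) : ‖ψ d / ψ 1‖ = 1 := by
  have h := IsIrrCharacter.apply_center_mul hψ hd d⁻¹
  rw [mul_inv_cancel, IsIrrCharacter.apply_inv hψ] at h
  have h1 := IsIrrCharacter.apply_one_ne_zero hψ
  have h2 : ‖ψ 1‖ = ‖ψ d / ψ 1‖ * ‖ψ d‖ := by
    conv_lhs => rw [h, norm_mul, Complex.norm_conj]
  have h3 : ‖ψ d / ψ 1‖ * ‖ψ d / ψ 1‖ = 1 := by
    rw [norm_div] at h2 ⊢
    have hp : 0 < ‖ψ 1‖ := norm_pos_iff.2 h1
    field_simp at h2 ⊢
    nlinarith
  nlinarith [norm_nonneg (ψ d / ψ 1)]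

/-- The elements of `R ⟨w⟩`. -/
def withInvol (R : Subgroup C) (w : C) (hw : w * w = 1)
    (hn : w ∈ Subgroup.normalizer (R : Set C)) : Subgroup C where
  carrier := {h | h ∈ R ∨ w * h ∈ R}
  one_mem' := Or.inl (one_mem _)
  mul_mem' {a b} ha hb := by
    have hwi : w⁻¹ = w := inv_eq_of_mul_eq_one_right hw
    have hc : ∀ x ∈ R, w * x * w ∈ R := fun x hx => by
      have := conj_mem_of_normalizer hn hx
      rwa [hwi] at this
    rcases ha with ha | ha <;> rcases hb with hb | hb
    · exact Or.inl (mul_mem ha hb)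
    · refine Or.inr ?_
      rw [show w * (a * b) = w * a * w * (w * b) by
        rw [mul_assoc (w * a) w, ← mul_assoc w w, hw, one_mul, mul_assoc]]
      exact mul_mem (hc a ha) hb
    · exact Or.inr (by rw [← mul_assoc]; exact mul_mem ha hb)
    · refine Or.inl ?_
      rw [show a * b = w * (w * a) * w * (w * b) by
        rw [mul_assoc (w * (w * a)) w, ← mul_assoc w w b, hw, one_mul, ← mul_assoc w w a, hw, one_mul]]
      exact mul_mem (hc _ ha) hb
  inv_mem' {a} ha := by
    have hwi : w⁻¹ = w := inv_eq_of_mul_eq_one_right hw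
    rcases ha with ha | ha
    · exact Or.inl (inv_mem ha)
    · refine Or.inr ?_
      have := conj_mem_of_normalizer hn (inv_mem ha)
      rw [hwi, mul_inv_rev, hwi] at this
      simpa [mul_assoc, hw] using this

/-- **The eigenvalue bound.** -/
theorem deg_bound (R : Subgroup C) {w : C} (hw : w * w = 1)
    (hn : w ∈ Subgroup.normalizer (R : Set C)) (hwR : w ∉ R)
    (hr : ∀ r ∈ R, ∃ s ∈ R, ∃ d ∈ R, (∀ x ∈ R, Commute d x) ∧ Commute d w ∧
      w * r = s * w * s⁻¹ * d)
    (Θ : Finset (R → ℂ)) (hΘ : ∀ θ ∈ Θ, IsIrrCharacter R θ) (c : ℝ)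
    (hc : ∀ θ ∈ Θ, c ≤ (θ 1).re ∧ (cj R w θ = θ → c ≤ (θ 1).re - 1))
    {φ : C → ℂ} (hφ : IsCharacter C φ) :
    c * ∑ θ ∈ Θ, mult R φ θ ≤ (φ 1).re - |(φ w).re| := by
  set H := withInvol R w hw hn with hH
  letI : Fintype H := Fintype.ofFinite _
  have hRH : R ≤ H := fun r hr => Or.inl hr
  let ι : R →* H := Subgroup.inclusion hRH
  let wH : H := ⟨w, Or.inr (by rw [hw]; exact one_mem _)⟩
  let m : (H → ℂ) → (R → ℂ) → ℝ := fun ψ θ => (classInner (fun r : R => ψ (ι r)) θ).re
  -- everything is additive, so it is enough to treat an irreducible character of `H`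
  suffices key : ∀ ψ : H → ℂ, IsIrrCharacter H ψ → c * ∑ θ ∈ Θ, m ψ θ ≤ (ψ 1).re - |(ψ wH).re| by
    have h := IsCharacter.induction_irr (G := H)
      (P := fun ψ => c * ∑ θ ∈ Θ, m ψ θ ≤ (ψ 1).re - |(ψ wH).re|) ?_ ?_ key
      (IsCharacter.restrict hφ H)
    · have e : ∀ θ, m (fun h : H => φ h) θ = mult R φ θ := fun θ => by
        simp only [m, mult]
        rfl
      simp only [e] at h
      exact h
    · simp [m, classInner]
    · intro a b ha hb
      have e : ∀ θ, m (a + b) θ = m a θ + m b θ := fun θ => by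
        simp only [m, Pi.add_apply]
        rw [← Complex.add_re, ← classInner_add_left]
        rfl
      simp only [e, Finset.sum_add_distrib, mul_add, Pi.add_apply, Complex.add_re]
      linarith [abs_add_le (a wH).re (b wH).re]
  intro ψ hψ
  have hRψ : IsCharacter R fun r => ψ (ι r) := IsCharacter.comp (IsIrrCharacter.isCharacter hψ) ι
  -- the values on `w R`
  have hval : ∀ r : R, ‖ψ (wH * ι r)‖ = ‖ψ wH‖ := by
    intro r
    obtain ⟨s, hs, d, hd, hdR, hdw, e⟩ := hr r r.2
    have hdc : (⟨d, hRH hd⟩ : H) ∈ Subgroup.center H := Subgroup.mem_center_iff.2 fun g => by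
      refine Subtype.ext ?_
      rcases g.2 with hg | hg
      · exact ((hdR _ hg).symm).eq
      · have h1 : Commute d (w * (w * g)) := hdw.mul_right (hdR _ hg)
        rw [← mul_assoc, hw, one_mul] at h1
        exact h1.symm.eq
    have e' : wH * ι r = (⟨d, hRH hd⟩ : H) * (⟨s, hRH hs⟩ * wH * (⟨s, hRH hs⟩)⁻¹) := by
      refine Subtype.ext ?_
      show w * r = d * (s * w * s⁻¹)
      rw [e]
      exact (((hdR s hs).mul_right hdw).mul_right (hdR s hs).inv_right).symm.eq
    rw [e', IsIrrCharacter.apply_center_mul hψ hdc, norm_mul, norm_center hψ hdc, one_mul,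
      IsIrrCharacter.isClassFunction hψ]
  -- the norm of the restriction
  obtain ⟨N, hN⟩ := IsCharacter.exists_classInner_eq_natCast' hRψ hRψ
  have hnorm : (N : ℝ) + ‖ψ wH‖ ^ 2 = 2 := by
    let e : R ⊕ R → H := Sum.elim (fun r => ι r) fun r => wH * ι r
    have he : Function.Bijective e := by
      constructor
      · rintro (a | a) (b | b) h <;> have h' : ((e _ : H) : C) = ((e _ : H) : C) := congrArg _ h
        · exact congrArg Sum.inl (Subtype.ext h')
        · exact absurd (show w ∈ R by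
            have h2 : (a : C) = w * b := h'
            rw [eq_mul_inv_iff_mul_eq.2 h2.symm]; exact mul_mem a.2 (inv_mem b.2)) hwR
        · exact absurd (show w ∈ R by
            have h2 : w * a = (b : C) := h'
            rw [eq_mul_inv_iff_mul_eq.2 h2]; exact mul_mem b.2 (inv_mem a.2)) hwR
        · exact congrArg Sum.inr (Subtype.ext (mul_left_cancel (show w * (a : C) = w * b from h')))
      · intro h
        rcases h.2 with hh | hh
        · exact ⟨Sum.inl ⟨h, hh⟩, Subtype.ext rfl⟩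
        · refine ⟨Sum.inr ⟨w * h, hh⟩, Subtype.ext ?_⟩
          show w * (w * h) = (h : C)
          rw [← mul_assoc, hw, one_mul]
    have hcard : Nat.card H = 2 * Nat.card R := by
      rw [← Nat.card_congr (Equiv.ofBijective e he), Nat.card_sum, two_mul]
    have h1 := classInner_self ψ
    rw [IsIrrCharacter.classInner_self hψ, ← Equiv.sum_comp (Equiv.ofBijective e he)] at h1
    have h2 := classInner_self fun r : R => ψ (ι r)
    rw [hN] at h2
    have h1' : (1 : ℝ) = (Nat.card H : ℝ)⁻¹ * ∑ x : R ⊕ R, ‖ψ (e x)‖ ^ 2 := by exact_mod_cast h1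
    have h2' : (N : ℝ) = (Nat.card R : ℝ)⁻¹ * ∑ r : R, ‖ψ (ι r)‖ ^ 2 := by exact_mod_cast h2
    rw [Fintype.sum_sum_type] at h1'
    simp only [e, Sum.elim_inl, Sum.elim_inr, hval, Finset.sum_const, Finset.card_univ,
      nsmul_eq_mul] at h1'
    rw [hcard, ← Nat.card_eq_fintype_card, Nat.cast_mul] at h1'
    have hp : (0 : ℝ) < Nat.card R := by exact_mod_cast Nat.card_pos
    field_simp at h1' h2'
    push_cast at h1'
    nlinarith
  have hN1 : 1 ≤ N := by
    rcases Nat.eq_zero_or_pos N with h0 | h0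
    · rw [h0, Nat.cast_zero] at hN
      have := congrFun (classInner_self_eq_zero hN) 1
      simp only [map_one, Pi.zero_apply] at this
      exact absurd this (IsIrrCharacter.apply_one_ne_zero hψ)
    · exact h0
  -- the decomposition of the restriction
  have hdeg : ψ 1 = ∑ θ ∈ irrFinset R, classInner (fun r => ψ (ι r)) θ * θ 1 := by
    have := congrFun (eq_sum_irr (IsCharacter.isClassFunction hRψ)) 1
    simp only [map_one, Finset.sum_apply, Pi.smul_apply, smul_eq_mul] at this
    exact this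
  have hm : ∀ θ ∈ irrFinset R, ∃ n : ℕ, classInner (fun r => ψ (ι r)) θ = n := fun θ hθ =>
    IsCharacter.exists_classInner_eq_natCast hRψ (mem_irrFinset.1 hθ)
  have hreal : (ψ wH).im = 0 := by
    have h := IsIrrCharacter.apply_inv hψ wH
    rw [show wH⁻¹ = wH from Subtype.ext (inv_eq_of_mul_eq_one_right hw)] at h
    have := congrArg Complex.im h
    simp only [Complex.conj_im] at this
    linarith
  by_cases ht : ψ wH = 0
  · have h1 : ∑ θ ∈ Θ, m ψ θ * (θ 1).re ≤ (ψ 1).re := by
      rw [hdeg, Complex.re_sum]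
      have hsub : Θ ⊆ irrFinset R := fun θ hθ => mem_irrFinset.2 (hΘ θ hθ)
      refine le_trans (le_of_eq (Finset.sum_congr rfl fun θ hθ => ?_))
        (Finset.sum_le_sum_of_subset_of_nonneg hsub fun θ hθ _ => ?_)
      · obtain ⟨n, hn'⟩ := hm θ (hsub hθ)
        simp [m, hn']
      · obtain ⟨n, hn'⟩ := hm θ hθ
        obtain ⟨d, -, hd⟩ := IsIrrCharacter.exists_degree (mem_irrFinset.1 hθ)
        rw [hn', hd]; simp; positivity
    rw [ht, Complex.zero_re, abs_zero, sub_zero, Finset.mul_sum]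
    refine le_trans (Finset.sum_le_sum fun θ hθ => ?_) h1
    obtain ⟨n, hn'⟩ := hm θ (mem_irrFinset.2 (hΘ θ hθ))
    have : m ψ θ = n := by simp [m, hn']
    rw [this, mul_comm]
    exact mul_le_mul_of_nonneg_left (hc θ hθ).1 n.cast_nonneg
  · -- the restriction is irreducible
    have hpos : 0 < ‖ψ wH‖ ^ 2 := by positivity
    have hN' : N = 1 := by
      have : (N : ℝ) < 2 := by linarith
      have : N < 2 := by exact_mod_cast this
      omega
    have hirr : IsIrrCharacter R fun r => ψ (ι r) :=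
      IsCharacter.isIrrCharacter_of_classInner_self hRψ (by rw [hN, hN', Nat.cast_one])
    have habs : |(ψ wH).re| = 1 := by
      have h1 : ‖ψ wH‖ ^ 2 = 1 := by rw [hN'] at hnorm; push_cast at hnorm; linarith
      rw [Complex.sq_norm, Complex.normSq_apply, hreal] at h1
      simp only [mul_zero, add_zero] at h1
      rcases mul_self_eq_one_iff.1 h1 with e | e <;> rw [e] <;> norm_num
    rw [habs]
    set θ₀ : R → ℂ := fun r => ψ (ι r) with hθ₀
    have hfix : cj R w θ₀ = θ₀ := by
      funext r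
      rw [cj_apply θ₀ (conj_mem_of_normalizer hn r.2)]
      show ψ _ = ψ _
      rw [← IsIrrCharacter.isClassFunction hψ (ι r) wH⁻¹]
      congr 1
      exact Subtype.ext (by simp [ι, wH, Subgroup.inclusion])
    have hmθ : ∀ θ ∈ Θ, m ψ θ = if θ = θ₀ then 1 else 0 := fun θ hθ => by
      simp only [m]
      rw [IsIrrCharacter.classInner_eq hirr (hΘ θ hθ)]
      by_cases e : θ = θ₀
      · rw [if_pos e, if_pos (by rw [e])]; simp
      · rw [if_neg e, if_neg (Ne.symm e)]; simp
    rw [Finset.sum_congr rfl hmθ, Finset.sum_ite_eq']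
    have h1 : (θ₀ 1).re = (ψ 1).re := by simp [hθ₀]
    by_cases hmem : θ₀ ∈ Θ
    · rw [if_pos hmem, mul_one, ← h1]
      exact (hc θ₀ hmem).2 hfix
    · rw [if_neg hmem, mul_zero, ← h1]
      obtain ⟨d, hd, hd'⟩ := IsIrrCharacter.exists_degree hirr
      rw [hd', Complex.natCast_re]
      have : (1 : ℝ) ≤ d := by exact_mod_cast hd
      linarith

/-- A property of the irreducible constituents with `z ↦ -1` passes to the degree. -/
theorem dvd_degree {T : Type u} [Group T] [Fintype T] {z : T} (d : ℕ)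
    (h : ∀ ψ, IsIrrCharacter T ψ → (ψ z).re = -(ψ 1).re → ∃ n : ℕ, ψ 1 = n ∧ d ∣ n)
    {φ : T → ℂ} (hφ : IsCharacter T φ) (hz : (φ z).re = -(φ 1).re) :
    ∃ n : ℕ, φ 1 = n ∧ d ∣ n := by
  have key : -(φ 1).re ≤ (φ z).re ∧ ((φ z).re = -(φ 1).re → ∃ n : ℕ, φ 1 = n ∧ d ∣ n) := by
    refine IsCharacter.induction_irr (P := fun φ => -(φ 1).re ≤ (φ z).re ∧
      ((φ z).re = -(φ 1).re → ∃ n : ℕ, φ 1 = n ∧ d ∣ n)) ⟨by simp, fun _ => ⟨0, by simp, dvd_zero _⟩⟩
      ?_ (fun ψ hψ => ⟨?_, h ψ hψ⟩) hφ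
    · rintro a b ⟨a1, a2⟩ ⟨b1, b2⟩
      refine ⟨by simp only [Pi.add_apply, Complex.add_re]; linarith, fun e => ?_⟩
      simp only [Pi.add_apply, Complex.add_re] at e
      obtain ⟨na, ea, da⟩ := a2 (by linarith)
      obtain ⟨nb, eb, db⟩ := b2 (by linarith)
      exact ⟨na + nb, by simp [ea, eb], dvd_add da db⟩
    · have := IsCharacter.norm_apply_le (IsIrrCharacter.isCharacter hψ) z
      have := (abs_le.1 ((Complex.abs_re_le_norm (ψ z)).trans this)).1
      exact this
  exact key.2 hz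

/-- **Divisibility of multiplicities.** If `H` normalises `R`, fixes `θ`, and every degree on `H` with
`z ↦ -1` is divisible by `d`, then so is the multiplicity of `θ`, for `θ` of degree prime to `d`. -/
theorem dvd_mult (R H : Subgroup C) (hRH : R ≤ H) (hn : H ≤ Subgroup.normalizer (R : Set C)) {z : C}
    (hz : z ∈ H) {θ : R → ℂ} (hθ : IsIrrCharacter R θ) (hfix : ∀ h ∈ H, cj R h θ = θ) (d : ℕ)
    (hcop : ∀ q : ℕ, θ 1 = q → Nat.Coprime d q)
    (hd : ∀ ψ : H → ℂ, IsIrrCharacter H ψ → (ψ ⟨z, hz⟩).re = -(ψ 1).re → ∃ n : ℕ, ψ 1 = n ∧ d ∣ n)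
    {φ : C → ℂ} (hφ : IsCharacter C φ) (hφz : (φ z).re = -(φ 1).re) :
    ∃ n : ℕ, mult R φ θ = n ∧ d ∣ n := by
  letI : Fintype H := Fintype.ofFinite _
  let ι : R →* H := Subgroup.inclusion hRH
  let m : (H → ℂ) → ℂ := fun ψ => classInner (fun r : R => ψ (ι r)) θ
  haveI : (R.subgroupOf H).Normal := Subgroup.normal_subgroupOf_iff_le_normalizer hRH |>.2 hn
  letI : Fintype (R.subgroupOf H) := Fintype.ofFinite _
  let e : R.subgroupOf H ≃* R := Subgroup.subgroupOfEquivOfLe hRH
  let θ' : R.subgroupOf H → ℂ := fun x => θ (e x)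
  have hθ' : IsIrrCharacter (R.subgroupOf H) θ' :=
    IsIrrCharacter.comp_surjective hθ e.toMonoidHom e.surjective
  have hin : inertia θ' = ⊤ := eq_top_iff.2 fun g _ => (mem_inertia _ _).2 <| funext fun x => by
    have h1 := congrFun (hfix (g : C)⁻¹ (inv_mem g.2)) (e x)
    rw [cj_apply θ (conj_mem_of_normalizer (inv_mem (hn g.2)) (e x).2)] at h1
    rw [conjOn_apply]
    refine Eq.trans ?_ h1
    show θ _ = θ _
    congr 1
    exact Subtype.ext (by simp [e, Subgroup.subgroupOfEquivOfLe])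
  have hmH : ∀ ψ : H → ℂ, classInner (fun x : R.subgroupOf H => ψ (x : H)) θ' = m ψ := fun ψ => by
    simp only [m, classInner]
    rw [Nat.card_congr e.toEquiv]
    congr 1
    exact Fintype.sum_equiv e.toEquiv _ _ fun x => rfl
  have key : -((fun h : H => φ h) 1).re ≤ ((fun h : H => φ h) ⟨z, hz⟩).re ∧
      (((fun h : H => φ h) ⟨z, hz⟩).re = -((fun h : H => φ h) 1).re →
        ∃ n : ℕ, m (fun h : H => φ h) = n ∧ d ∣ n) := by
    refine IsCharacter.induction_irr (G := H) (P := fun ψ => -(ψ 1).re ≤ (ψ ⟨z, hz⟩).re ∧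
      ((ψ ⟨z, hz⟩).re = -(ψ 1).re → ∃ n : ℕ, m ψ = n ∧ d ∣ n))
      ⟨by simp, fun _ => ⟨0, by simp [m, classInner], dvd_zero _⟩⟩ ?_ (fun ψ hψ => ⟨?_, fun hz' => ?_⟩)
      (IsCharacter.restrict hφ H)
    · rintro a b ⟨a1, a2⟩ ⟨b1, b2⟩
      refine ⟨by simp only [Pi.add_apply, Complex.add_re]; linarith, fun e => ?_⟩
      simp only [Pi.add_apply, Complex.add_re] at e
      obtain ⟨na, ea, da⟩ := a2 (by linarith)
      obtain ⟨nb, eb, db⟩ := b2 (by linarith)
      refine ⟨na + nb, ?_, dvd_add da db⟩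
      rw [Nat.cast_add, ← ea, ← eb]
      simp only [m, ← classInner_add_left]
      rfl
    · have := IsCharacter.norm_apply_le (IsIrrCharacter.isCharacter hψ) (⟨z, hz⟩ : H)
      exact (abs_le.1 ((Complex.abs_re_le_norm _).trans this)).1
    · obtain ⟨a, ha⟩ := IsCharacter.exists_classInner_eq_natCast
        (IsCharacter.comp (IsIrrCharacter.isCharacter hψ) ι) hθ
      refine ⟨a, ha, ?_⟩
      by_cases ha0 : a = 0
      · rw [ha0]; exact dvd_zero _
      have hne : classInner (fun x : R.subgroupOf H => ψ (x : H)) θ' ≠ 0 := by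
        rw [hmH]
        show m ψ ≠ 0
        rw [show m ψ = a from ha]
        exact_mod_cast ha0
      have h1 := degree_eq_mul hψ hθ' hne
      rw [hmH, show m ψ = a from ha, hin, Subgroup.index_top, Nat.cast_one, mul_one] at h1
      obtain ⟨n, hn1, hn2⟩ := hd ψ hψ hz'
      obtain ⟨q, -, hq⟩ := IsIrrCharacter.exists_degree hθ
      rw [hn1, show θ' 1 = q by simpa [θ'] using hq] at h1
      have h2 : n = a * q := by exact_mod_cast h1
      exact (hcop q hq).dvd_of_dvd_mul_right (h2 ▸ hn2)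
  obtain ⟨n, hn1, hn2⟩ := key.2 (by simpa using hφz)
  refine ⟨n, ?_, hn2⟩
  have : classInner (fun r : R => φ r) θ = n := hn1
  rw [mult, this, Complex.natCast_re]

end CfsgLib.U34Sylow.LB
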