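import Cfsg.Agent.U34Sylow.LocalBound.Sylow
import Cfsg.Agent.U34Sylow.LocalBound.Weight
import Cfsg.Agent.Blocks.NormalSub
import Cfsg.Agent.Char.Linear

/-!
# Local bound: the degree of an invariant character

A character of the group of class two fixed by the whole Sylow 2-subgroup has degree at least nine.
-/

set_option autoImplicit false
set_option linter.style.haveILetI false
set_option linter.unusedSectionVars false
set_option linter.unusedVariables false

universe u

namespace CfsgLib.U34Sylow.LB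

open Cfsg CfsgLib.Char Finset
open CfsgLib.GW.CaseI (invGen invGen_le exists_split)
open scoped ComplexConjugate Classical

/-- A group of odd order with such automorphisms has order at least `p ^ 4`. -/
theorem card_ge {A : Type u} [CommGroup A] [Finite A] {p : ℕ} [Fact p.Prime] (hA : IsPGroup p A)
    (hodd : ∀ a : A, a * a = 1 → a = 1) (hne : ∃ a : A, a ≠ 1) (x y y' v : A ≃* A)
    (hxx : ∀ a, x (x a) = a) (hv : ∀ a, v (x a) = (x (v a))⁻¹) (hy : ∀ a, y (x a) = x (y a))
    (hy' : ∀ a, y' (x a) = x (y' a)) (hyy : ∀ a, y (y' a) = (y' (y a))⁻¹) :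
    p ^ 4 ≤ Nat.card A := by
  obtain ⟨a₀, ha₀⟩ := hne
  let P : Subgroup A := x.toMonoidHom.eqLocus (MonoidHom.id A)
  let M : Subgroup A :=
    { carrier := {a | x a = a⁻¹}
      one_mem' := by simp
      mul_mem' := fun {a b} ha hb => by
        show x (a * b) = (a * b)⁻¹
        rw [map_mul, show x a = a⁻¹ from ha, show x b = b⁻¹ from hb, mul_inv]
      inv_mem' := fun {a} ha => by
        show x a⁻¹ = a⁻¹⁻¹
        rw [map_inv, show x a = a⁻¹ from ha] }
  have hP : ∀ a, a ∈ P ↔ x a = a := fun a => Iff.rfl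
  have hM : ∀ a, a ∈ M ↔ x a = a⁻¹ := fun a => Iff.rfl
  have hbig : ∀ Q : Subgroup A, (∀ a, a ∈ Q → y a ∈ Q ∧ y' a ∈ Q) → Q ≠ ⊥ →
      p ^ 2 ≤ Nat.card Q := by
    intro Q hQ hne'
    obtain ⟨k, hk⟩ := IsPGroup.iff_card.1 (hA.to_subgroup Q)
    rw [hk]
    refine Nat.pow_le_pow_right (Fact.out : p.Prime).pos ?_
    by_contra hlt
    push Not at hlt
    obtain ⟨g, hg, hg1⟩ : ∃ g ∈ Q, g ≠ 1 := by
      by_contra hc
      push Not at hc
      exact hne' ((Subgroup.eq_bot_iff_forall _).2 hc)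
    have hk1 : k = 1 := by
      by_contra hk1
      have : k = 0 := by omega
      rw [this, pow_zero] at hk
      exact hne' (Subgroup.card_eq_one.1 hk)
    rw [hk1, pow_one] at hk
    have hcyc : Subgroup.zpowers g = Q := by
      refine Subgroup.eq_of_le_of_card_ge (Subgroup.zpowers_le.2 hg) ?_
      rw [hk, Nat.card_zpowers]
      have h1 := Subgroup.orderOf_dvd_natCard Q hg
      rw [hk] at h1
      rcases (Nat.dvd_prime Fact.out).1 h1 with e | e
      · exact absurd (orderOf_eq_one_iff.1 e) hg1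
      · exact e.ge
    obtain ⟨i, hi⟩ := Subgroup.mem_zpowers_iff.1 (hcyc ▸ (hQ g hg).1 : y g ∈ Subgroup.zpowers g)
    obtain ⟨j, hj⟩ := Subgroup.mem_zpowers_iff.1 (hcyc ▸ (hQ g hg).2 : y' g ∈ Subgroup.zpowers g)
    have e : y' (y g) = y (y' g) := by
      rw [← hi, ← hj, map_zpow, map_zpow, ← hi, ← hj, ← zpow_mul, ← zpow_mul, mul_comm]
    have h2 := hyy g
    rw [← e] at h2
    have h3 : y' (y g) * y' (y g) = 1 := by
      nth_rw 1 [h2]
      exact inv_mul_cancel _
    have := hodd _ h3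
    exact hg1 (y.injective (y'.injective (by rw [this, map_one, map_one])))
  have hPne : P ≠ ⊥ := fun h0 => by
    have hinv : ∀ a, x a = a⁻¹ := fun a => by
      have h1 : a * x a ∈ P := by rw [hP, map_mul, hxx, mul_comm]
      rw [h0, Subgroup.mem_bot] at h1
      exact eq_inv_of_mul_eq_one_right h1
    refine ha₀ (v.injective ?_)
    rw [map_one]
    refine hodd _ ?_
    have h1 := hv a₀
    rw [hinv, hinv, inv_inv, map_inv] at h1
    nth_rw 1 [← h1]
    exact inv_mul_cancel _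
  have hMne : M ≠ ⊥ := fun h0 => by
    have hid : ∀ a, x a = a := fun a => by
      have h1 : a⁻¹ * x a ∈ M := by rw [hM, map_mul, map_inv, hxx, mul_inv_rev, inv_inv, mul_comm]
      rw [h0, Subgroup.mem_bot, inv_mul_eq_one] at h1
      exact h1.symm
    refine ha₀ (v.injective ?_)
    rw [map_one]
    refine hodd _ ?_
    have h1 := hv a₀
    rw [hid, hid] at h1
    nth_rw 1 [h1]
    exact inv_mul_cancel _
  have h1 := hbig P (fun a ha => ⟨(hP _).2 (by rw [← hy, (hP a).1 ha]),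
    (hP _).2 (by rw [← hy', (hP a).1 ha])⟩) hPne
  have h2 := hbig M (fun a ha => ⟨(hM _).2 (by rw [← hy, (hM a).1 ha, map_inv]),
    (hM _).2 (by rw [← hy', (hM a).1 ha, map_inv])⟩) hMne
  have hinj : Function.Injective fun ab : P × M => (ab.1 : A) * ab.2 := by
    rintro ⟨a, b⟩ ⟨a', b'⟩ h
    simp only at h
    have hd : ∀ c, c ∈ P → c ∈ M → c = 1 := fun c hc hc' => hodd c (by
      rw [hP] at hc; rw [hM, hc] at hc'
      nth_rw 2 [hc']
      exact mul_inv_cancel c)
    have e : (a' : A)⁻¹ * a = b' * (b : A)⁻¹ := by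
      rw [inv_mul_eq_iff_eq_mul, ← mul_assoc, ← h, mul_inv_cancel_right]
    have e1 := hd _ (mul_mem (inv_mem a'.2) a.2) (e ▸ mul_mem b'.2 (inv_mem b.2))
    have ea : (a : A) = a' := (inv_mul_eq_one.1 e1).symm
    rw [ea] at h
    exact Prod.ext (Subtype.ext ea) (Subtype.ext (mul_left_cancel h))
  have h3 := Nat.card_le_card_of_injective _ hinj
  rw [Nat.card_prod] at h3
  calc p ^ 4 = p ^ 2 * p ^ 2 := by ring
    _ ≤ _ := (Nat.mul_le_mul h1 h2).trans h3

/-- `R` is a `p`-group of class two generated by elements inverted by `w`, with central fixed points,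
normalised by `S` and `f`. -/
structure Min {C : Type u} [Group C] (D : Two C) where
  R : Subgroup C
  p : ℕ
  hp : p.Prime
  pgroup : IsPGroup p R
  odd : Odd (Nat.card R)
  S_le : D.S ≤ Subgroup.normalizer (R : Set C)
  f_mem : D.f ∈ Subgroup.normalizer (R : Set C)
  gen : invGen D.w R = R
  comm_central : ∀ a ∈ R, ∀ b ∈ R, ∀ x ∈ R, Commute (a * b * a⁻¹ * b⁻¹) x
  fixed_central : ∀ d ∈ R, Commute d D.w → ∀ x ∈ R, Commute d x

namespace Min

variable {C : Type u} [Group C] [Fintype C] {D : Two C} (M : Min D)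
include M

theorem w_mem : D.w ∈ Subgroup.normalizer (M.R : Set C) := M.S_le (D.Z_le D.w_mem)

theorem odd_sq {x : C} (hx : x ∈ M.R) (h : x * x = 1) : x = 1 := by
  have h1 : orderOf x ∣ 2 := orderOf_dvd_of_pow_eq_one (by rw [pow_two, h])
  have h2 := Subgroup.orderOf_dvd_natCard M.R hx
  rcases (Nat.dvd_prime Nat.prime_two).1 h1 with e | e
  · exact orderOf_eq_one_iff.1 e
  · rw [e] at h2
    exact absurd h2 M.odd.not_two_dvd_nat

theorem exists_half {n : C} (hn : n ∈ M.R) : ∃ s ∈ Subgroup.zpowers n, s * s = n := by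
  obtain ⟨k, hk⟩ := M.odd.of_dvd_nat (Subgroup.orderOf_dvd_natCard M.R hn)
  refine ⟨n ^ (k + 1), pow_mem (Subgroup.mem_zpowers n) _, ?_⟩
  rw [← pow_add, show k + 1 + (k + 1) = orderOf n + 1 by omega, pow_succ, pow_orderOf_eq_one, one_mul]

theorem w_coset {r : C} (hr : r ∈ M.R) : ∃ s ∈ M.R, ∃ d ∈ M.R, (∀ x ∈ M.R, Commute d x) ∧
    Commute d D.w ∧ D.w * r = s * D.w * s⁻¹ * d := by
  obtain ⟨d, hd, i, hi, hdw, hiw, rfl⟩ := exists_split D.w_sq M.odd M.w_mem hr
  obtain ⟨s, hs, hss⟩ := M.exists_half hi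
  have hsR : s ∈ M.R := Subgroup.zpowers_le.2 hi hs
  have hsw : D.w * s * D.w = s⁻¹ := by
    obtain ⟨k, rfl⟩ := Subgroup.mem_zpowers_iff.1 hs
    have hwi : D.w⁻¹ = D.w := inv_eq_of_mul_eq_one_right D.w_sq
    have h := (conj_zpow (a := D.w) (b := i) (i := k)).symm
    rw [hwi, hiw, inv_zpow] at h
    exact h
  refine ⟨s⁻¹, inv_mem hsR, d, hd, M.fixed_central d hd hdw, hdw, ?_⟩
  rw [inv_inv]
  have e : D.w * s = s⁻¹ * D.w := by
    rw [← hsw, mul_assoc, D.w_sq, mul_one]
  calc D.w * (d * i) = D.w * (i * d) := by rw [(M.fixed_central d hd hdw i hi).eq]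
    _ = D.w * s * s * d := by rw [← hss]; simp only [mul_assoc]
    _ = _ := by rw [e]

variable {θ : M.R → ℂ} (hθ : IsIrrCharacter M.R θ)
include hθ

/-- The centre of `θ`. -/
def cen : Subgroup M.R where
  carrier := {r | ∀ s : M.R, θ (r * s * r⁻¹ * s⁻¹) = θ 1}
  one_mem' s := by simp
  mul_mem' {a b} ha hb s := by
    have hc : Commute (b * s * b⁻¹ * s⁻¹) a :=
      Subtype.ext (M.comm_central b b.2 s s.2 a a.2).eq
    rw [show a * b * s * (a * b)⁻¹ * s⁻¹ = (a * (b * s * b⁻¹ * s⁻¹) * a⁻¹) * (a * s * a⁻¹ * s⁻¹) by group,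
      ← hc.eq, mul_inv_cancel_right]
    exact (kerSubgroup (IsIrrCharacter.isCharacter hθ)).mul_mem (hb s) (ha s)
  inv_mem' {a} ha s := by
    have hc : Commute (a * s * a⁻¹ * s⁻¹) a :=
      Subtype.ext (M.comm_central a a.2 s s.2 a a.2).eq
    rw [show a⁻¹ * s * a⁻¹⁻¹ * s⁻¹ = a⁻¹ * (a * s * a⁻¹ * s⁻¹)⁻¹ * a by group,
      mul_assoc, hc.inv_left.eq, inv_mul_cancel_left]
    exact (kerSubgroup (IsIrrCharacter.isCharacter hθ)).inv_mem (ha s)

theorem mem_cen {r : M.R} : r ∈ M.cen hθ ↔ ∀ s : M.R, θ (r * s * r⁻¹ * s⁻¹) = θ 1 := Iff.rfl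

theorem central_mem_cen {r : M.R} (h : ∀ x ∈ M.R, Commute (r : C) x) : r ∈ M.cen hθ := fun s => by
  congr 1
  refine Subtype.ext ?_
  simp only [Subgroup.coe_mul, Subgroup.coe_inv, Subgroup.coe_one]
  rw [(h s s.2).eq, mul_inv_cancel_right, mul_inv_cancel]

theorem comm_mem_cen (a b : M.R) : a * b * a⁻¹ * b⁻¹ ∈ M.cen hθ :=
  M.central_mem_cen hθ (M.comm_central a a.2 b b.2)

theorem cen_normal : (M.cen hθ).Normal := ⟨fun r hr g => by
  have := mul_mem (M.comm_mem_cen hθ g r) hr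
  rwa [show g * r * g⁻¹ * r⁻¹ * r = g * r * g⁻¹ by group] at this⟩

theorem index_le {q : ℕ} (hq : θ 1 = q) : (M.cen hθ).index ≤ q ^ 2 := by
  letI : Fintype M.R := Fintype.ofFinite _
  have hzero : ∀ r : M.R, r ∉ M.cen hθ → θ r = 0 := fun r hr => by
    by_contra h0
    refine hr fun s => ?_
    set c := r * s * r⁻¹ * s⁻¹ with hc
    have hcen : c⁻¹ ∈ Subgroup.center M.R := inv_mem (Subgroup.mem_center_iff.2 fun x =>
      Subtype.ext (M.comm_central r r.2 s s.2 x x.2).symm.eq)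
    have h1 : θ (c⁻¹ * r) = θ r := by
      rw [← IsIrrCharacter.isClassFunction hθ r s]
      congr 1
      rw [hc]; group
    rw [IsIrrCharacter.apply_center_mul hθ hcen] at h1
    have h2 : θ c⁻¹ = θ 1 := by
      have := mul_right_eq_self₀.1 ((mul_comm _ _).trans h1) |>.resolve_right h0
      rwa [div_eq_one_iff_eq (IsIrrCharacter.apply_one_ne_zero hθ)] at this
    have := (kerSubgroup (IsIrrCharacter.isCharacter hθ)).inv_mem (show c⁻¹ ∈ _ from h2)
    rwa [inv_inv] at this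
  have h1 := classInner_self θ
  rw [IsIrrCharacter.classInner_self hθ] at h1
  have h1' : (1 : ℝ) = (Nat.card M.R : ℝ)⁻¹ * ∑ r : M.R, ‖θ r‖ ^ 2 := by exact_mod_cast h1
  have h2 : ∑ r : M.R, ‖θ r‖ ^ 2 ≤ (Nat.card (M.cen hθ) : ℝ) * (q : ℝ) ^ 2 := by
    rw [← Finset.sum_filter_add_sum_filter_not univ (· ∈ M.cen hθ),
      Finset.sum_eq_zero (s := univ.filter fun r => ¬ r ∈ M.cen hθ) (fun r hr => by
        rw [hzero r (mem_filter.1 hr).2, norm_zero, zero_pow two_ne_zero]), add_zero]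
    refine le_trans (Finset.sum_le_card_nsmul _ _ ((q : ℝ) ^ 2) fun r _ => ?_) (le_of_eq ?_)
    · have := IsCharacter.norm_apply_le (IsIrrCharacter.isCharacter hθ) r
      rw [hq, Complex.natCast_re] at this
      exact pow_le_pow_left₀ (norm_nonneg _) this 2
    · rw [nsmul_eq_mul, Nat.card_eq_fintype_card, Fintype.card_subtype]
  have hp : (0 : ℝ) < Nat.card M.R := by exact_mod_cast Nat.card_pos
  have h3 : (Nat.card M.R : ℝ) ≤ (Nat.card (M.cen hθ) : ℝ) * (q : ℝ) ^ 2 := by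
    rw [eq_inv_mul_iff_mul_eq₀ hp.ne', mul_one] at h1'
    linarith
  have h4 : Nat.card (M.cen hθ) * (M.cen hθ).index ≤ Nat.card (M.cen hθ) * q ^ 2 := by
    rw [Subgroup.card_mul_index]; exact_mod_cast h3
  exact Nat.le_of_mul_le_mul_left h4 Nat.card_pos

theorem cen_ne_top (h : θ 1 ≠ 1) : M.cen hθ ≠ ⊤ := fun e => h <| by
  letI : Fintype M.R := Fintype.ofFinite _
  have hker : commutator M.R ≤ kerSubgroup (IsIrrCharacter.isCharacter hθ) := by
    rw [commutator_def, Subgroup.commutator_le]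
    intro a _ b _
    exact (e ▸ Subgroup.mem_top a : a ∈ M.cen hθ) b
  obtain ⟨φ, hφ⟩ := CfsgLib.Block.exists_quotient_irr (commutator M.R) ⟨θ, hθ⟩ fun n hn => hker hn
  have h1 := hφ 1
  simp only [QuotientGroup.mk_one] at h1
  rw [h1]
  refine IsIrrCharacter.apply_one_eq_one φ.2 fun a b => ?_
  induction a using QuotientGroup.induction_on with
  | _ a =>
    induction b using QuotientGroup.induction_on with
    | _ b =>
      rw [← QuotientGroup.mk_mul, ← QuotientGroup.mk_mul, QuotientGroup.eq]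
      have := Subgroup.commutator_mem_commutator (Subgroup.mem_top b⁻¹) (Subgroup.mem_top a⁻¹)
      rw [commutatorElement_def, ← commutator_def] at this
      simpa [mul_assoc] using this

/-- A fixed linear character is trivial. -/
theorem linear_fixed (h1 : θ 1 = 1) (hfix : cj M.R D.w θ = θ) : θ = fun _ => 1 := by
  obtain ⟨lam, hlam⟩ := IsCharacter.exists_hom (IsIrrCharacter.isCharacter hθ) h1
  have key : ∀ x ∈ invGen D.w M.R, ∀ hx : x ∈ M.R, lam ⟨x, hx⟩ = 1 := by
    intro x hx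
    induction hx using Subgroup.closure_induction with
    | mem x hx =>
      intro hxR
      have h := congrFun hfix ⟨x, hxR⟩
      rw [cj_apply θ (conj_mem_of_normalizer M.w_mem hxR)] at h
      simp only [hlam] at h
      have hu : lam ⟨D.w⁻¹ * x * D.w, conj_mem_of_normalizer M.w_mem hxR⟩ = lam ⟨x, hxR⟩ :=
        Units.ext h
      have e : (⟨D.w⁻¹ * x * D.w, conj_mem_of_normalizer M.w_mem hxR⟩ : M.R) = (⟨x, hxR⟩ : M.R)⁻¹ := by
        refine Subtype.ext ?_
        show D.w⁻¹ * x * D.w = x⁻¹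
        rw [inv_eq_of_mul_eq_one_right D.w_sq]
        exact hx.2
      rw [e, map_inv, inv_eq_iff_mul_eq_one, ← map_mul] at hu
      obtain ⟨s, hs, hss⟩ := M.exists_half hxR
      obtain ⟨k, hk⟩ := Subgroup.mem_zpowers_iff.1 hs
      have h2 : (⟨x, hxR⟩ : M.R) = (⟨x, hxR⟩ * ⟨x, hxR⟩) ^ k := by
        refine Subtype.ext ?_
        simp only [Subgroup.coe_zpow, Subgroup.coe_mul]
        rw [(Commute.refl x).mul_zpow, hk, hss]
      rw [h2, map_zpow, hu, one_zpow]
    | one => intro _; exact map_one lam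
    | inv x hx ih =>
      intro hxi
      have hxR : x ∈ M.R := invGen_le _ _ hx
      rw [show (⟨x⁻¹, hxi⟩ : M.R) = (⟨x, hxR⟩ : M.R)⁻¹ from rfl, map_inv, ih hxR, inv_one]
    | mul x y hx hy ihx ihy =>
      intro hxy
      have hxR : x ∈ M.R := invGen_le _ _ hx
      have hyR : y ∈ M.R := invGen_le _ _ hy
      rw [show (⟨x * y, hxy⟩ : M.R) = (⟨x, hxR⟩ : M.R) * ⟨y, hyR⟩ from rfl, map_mul, ihx hxR,
        ihy hyR, one_mul]
  funext r
  rw [hlam]
  simp [key r (M.gen.symm ▸ r.2) r.2]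

theorem degree_ge_three {q : ℕ} (hq : θ 1 = q) (hq1 : q ≠ 1) : M.p ≤ q ∧ 3 ≤ M.p := by
  haveI := Fact.mk M.hp
  obtain ⟨k, hk⟩ := IsPGroup.iff_card.1 M.pgroup
  have hd := IsIrrCharacter.degree_dvd_card hθ hq
  rw [hk] at hd
  obtain ⟨j, hj, rfl⟩ := (Nat.dvd_prime_pow M.hp).1 hd
  have hj0 : j ≠ 0 := fun e => hq1 (by rw [e, pow_zero])
  refine ⟨Nat.le_self_pow hj0 _, ?_⟩
  by_contra h3
  have hp2 : M.p = 2 := by have := M.hp.two_le; omega
  have := M.odd
  rw [hk, hp2] at this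
  exact absurd this (by
    rw [Nat.not_odd_iff_even, Nat.even_pow]
    exact ⟨even_two, by omega⟩)

theorem odd_degree {q : ℕ} (hq : θ 1 = q) : Odd q :=
  M.odd.of_dvd_nat (IsIrrCharacter.degree_dvd_card hθ hq)

/-- **An invariant character has degree at least nine.** -/
theorem nine_le (hfix : ∀ g ∈ D.S, cj M.R g θ = θ) {q : ℕ} (hq : θ 1 = q) (hq1 : q ≠ 1) : 9 ≤ q := by
  haveI := Fact.mk M.hp
  letI : Fintype M.R := Fintype.ofFinite _
  haveI := M.cen_normal hθ
  let A := M.R ⧸ M.cen hθ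
  letI : CommGroup A :=
    { QuotientGroup.Quotient.group (M.cen hθ) with
      mul_comm := fun a b => by
        induction a using QuotientGroup.induction_on with
        | _ a =>
          induction b using QuotientGroup.induction_on with
          | _ b =>
            show ((a * b : M.R) : A) = ((b * a : M.R) : A)
            rw [QuotientGroup.eq]
            have := M.comm_mem_cen hθ b⁻¹ a⁻¹
            simpa [mul_assoc] using this }
  have hinv : ∀ (g : D.S) (r : M.R), θ ((cjEquiv M.R (M.S_le g.2)).symm r) = θ r := fun g r => by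
    have := congrFun (hfix g g.2) ((cjEquiv M.R (M.S_le g.2)).symm r)
    rw [cj_eq (M.S_le g.2)] at this
    simp only [MulEquiv.apply_symm_apply] at this
    exact this.symm
  have hpres : ∀ g : D.S,
      (M.cen hθ).map ((cjEquiv M.R (M.S_le g.2)).symm : M.R →* M.R) = M.cen hθ := by
    intro g
    refine Subgroup.eq_of_le_of_card_ge ?_
      (Subgroup.card_map_of_injective (MulEquiv.injective _)).ge
    rintro _ ⟨r, hr, rfl⟩ s
    set e := (cjEquiv M.R (M.S_le g.2)).symm with he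
    have := hr (e.symm s)
    rw [← hinv g, ← hinv g 1, map_one] at this
    simpa [← he] using this
  let au : D.S → (A ≃* A) := fun g =>
    QuotientGroup.congr (M.cen hθ) (M.cen hθ) (cjEquiv M.R (M.S_le g.2)).symm (hpres g)
  have hau : ∀ (g : D.S) (r : M.R), au g (r : A) =
      (((cjEquiv M.R (M.S_le g.2)).symm r : M.R) : A) := fun g r => rfl
  have hmul : ∀ (g h : D.S) (a : A), au g (au h a) = au (g * h) a := fun g h a => by
    induction a using QuotientGroup.induction_on with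
    | _ a =>
      rw [hau, hau, hau]
      refine congrArg _ (Subtype.ext ?_)
      show (g : C) * ((h : C) * a * (h : C)⁻¹) * (g : C)⁻¹ = (g * h : C) * a * (g * h : C)⁻¹
      group
  have hz : ∀ (g : D.S), (g : C) = D.z → ∀ a, au g a = a := fun g e a => by
    induction a using QuotientGroup.induction_on with
    | _ a =>
      rw [hau]
      refine congrArg _ (Subtype.ext ?_)
      show (g : C) * a * (g : C)⁻¹ = a
      rw [e, ← (D.z_central a).eq, mul_inv_cancel_right]
  have hw : ∀ (g : D.S), (g : C) = D.w → ∀ a, au g a = a⁻¹ := fun g e a => by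
    induction a using QuotientGroup.induction_on with
    | _ a =>
      obtain ⟨d, hd, i, hi, hdw, hiw, hdi⟩ := exists_split D.w_sq M.odd M.w_mem a.2
      have hdc : ((⟨d, hd⟩ : M.R) : A) = 1 :=
        (QuotientGroup.eq_one_iff _).2 (M.central_mem_cen hθ (M.fixed_central d hd hdw))
      have ea : (a : A) = ((⟨i, hi⟩ : M.R) : A) := by
        rw [show a = ⟨d, hd⟩ * ⟨i, hi⟩ from Subtype.ext hdi, QuotientGroup.mk_mul, hdc, one_mul]
      rw [ea, hau, ← QuotientGroup.mk_inv]
      refine congrArg _ (Subtype.ext ?_)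
      show (g : C) * i * (g : C)⁻¹ = i⁻¹
      rw [e, inv_eq_of_mul_eq_one_right D.w_sq]
      exact hiw
  obtain ⟨x, hx, hxx, y, hy, y', hy', hyx, hy'x, hyy⟩ := D.exists_special
  have hxZ : x ∉ D.Z := fun h => by
    have : x * x = 1 := by nth_rw 1 [← D.inv_Z h]; exact inv_mul_cancel x
    exact D.z_ne (hxx ▸ this)
  obtain ⟨v, hv, hvx⟩ := D.full x hx hxZ D.w D.w_mem
  have hzS : D.z ∈ D.S := D.Z_le D.z_mem
  have hwS : D.w ∈ D.S := D.Z_le D.w_mem
  have hcomm : ∀ (g h c : D.S), (g : C) * h * (g : C)⁻¹ * (h : C)⁻¹ = c → ∀ a,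
      au g (au h a) = au c (au h (au g a)) := fun g h c e a => by
    rw [hmul, hmul, hmul]
    have : g * h = c * (h * g) := Subtype.ext (by
      show (g : C) * h = c * (h * g)
      rw [← e]; group)
    rw [this, mul_assoc]
  have hAodd : Odd (Nat.card A) := M.odd.of_dvd_nat ((M.cen hθ).index_dvd_card)
  have h4 : M.p ^ 4 ≤ Nat.card A := by
    refine card_ge (M.pgroup.to_quotient _) (fun a ha => ?_) ?_ (au ⟨x, hx⟩) (au ⟨y, hy⟩)
      (au ⟨y', hy'⟩) (au ⟨v, hv⟩) (fun a => ?_) (fun a => ?_) (fun a => ?_) (fun a => ?_) (fun a => ?_)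
    · have h1 : orderOf a ∣ 2 := orderOf_dvd_of_pow_eq_one (by rw [pow_two, ha])
      rcases (Nat.dvd_prime Nat.prime_two).1 h1 with e | e
      · exact orderOf_eq_one_iff.1 e
      · have := orderOf_dvd_natCard a
        rw [e] at this
        exact absurd this hAodd.not_two_dvd_nat
    · by_contra hc
      push Not at hc
      refine M.cen_ne_top hθ (fun e => hq1 (by exact_mod_cast hq.symm.trans e)) (eq_top_iff.2 fun r _ => ?_)
      exact (QuotientGroup.eq_one_iff r).1 (hc _)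
    · rw [hmul]; exact hz _ hxx a
    · rw [hcomm ⟨v, hv⟩ ⟨x, hx⟩ ⟨D.w, hwS⟩ hvx, hw _ rfl]
    · rcases hyx with e | e
      · rw [hmul, hmul]
        congr 2
        exact Subtype.ext (by
          show y * x = x * y
          rw [mul_inv_eq_one, mul_inv_eq_iff_eq_mul] at e; exact e)
      · rw [hcomm ⟨y, hy⟩ ⟨x, hx⟩ ⟨D.z, hzS⟩ e, hz _ rfl]
    · rcases hy'x with e | e
      · rw [hmul, hmul]
        congr 2
        exact Subtype.ext (by
          show y' * x = x * y'
          rw [mul_inv_eq_one, mul_inv_eq_iff_eq_mul] at e; exact e)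
      · rw [hcomm ⟨y', hy'⟩ ⟨x, hx⟩ ⟨D.z, hzS⟩ e, hz _ rfl]
    · rcases hyy with e | e
      · rw [hcomm ⟨y, hy⟩ ⟨y', hy'⟩ ⟨D.w, hwS⟩ e, hw _ rfl]
      · rw [hcomm ⟨y, hy⟩ ⟨y', hy'⟩ (⟨D.z, hzS⟩ * ⟨D.w, hwS⟩) e, ← hmul, hz _ rfl, hw _ rfl]
  have h5 : M.p ^ 4 ≤ q ^ 2 := le_trans h4 (M.index_le hθ hq)
  have h6 : M.p ^ 2 ≤ q := by
    by_contra hlt
    push Not at hlt
    have := Nat.pow_lt_pow_left hlt two_ne_zero
    rw [← pow_mul, show 2 * 2 = 4 from rfl] at this
    omega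
  have h7 := Nat.pow_le_pow_left (M.degree_ge_three hθ hq hq1).2 2
  omega

end Min

end CfsgLib.U34Sylow.LB
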