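import Cfsg.Agent.U34Sylow.LocalBound.Orbit
import Cfsg.Agent.Solvable.CoprimeAct
import Cfsg.Agent.Char.Kernel

/-!
# Local bound: an invariant group of class two moved by `w`
-/

set_option autoImplicit false
set_option linter.style.haveILetI false
set_option linter.unusedSectionVars false
set_option linter.unusedVariables false

universe u

namespace CfsgLib.U34Sylow.LB

open Cfsg CfsgLib.Char Finset
open CfsgLib.GW.CaseI (invGen invGen_le mem_invGen exists_split mem_normalizer_invGen_of_commute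
  commute_of_le_centralizer conj_eq_of_commute)
open scoped ComplexConjugate Classical Pointwise

variable {C : Type u} [Group C] [Fintype C]

/-- A character splits by the value at a central involution. -/
theorem exists_split_char {z : C} (hz : ∀ c, Commute c z) (hz2 : z * z = 1) {χ : C → ℂ}
    (hχ : IsCharacter C χ) :
    ∃ φp φm : C → ℂ, IsCharacter C φp ∧ IsCharacter C φm ∧ χ = φp + φm ∧
      (∀ g, φp (z * g) = φp g) ∧ ∀ g, φm (z * g) = -φm g := by
  refine IsCharacter.induction_irr (P := fun χ => ∃ φp φm : C → ℂ, IsCharacter C φp ∧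
    IsCharacter C φm ∧ χ = φp + φm ∧ (∀ g, φp (z * g) = φp g) ∧ ∀ g, φm (z * g) = -φm g)
    ⟨0, 0, isCharacter_zero, isCharacter_zero, (add_zero _).symm, fun g => rfl, fun g => by simp⟩ ?_ ?_ hχ
  · rintro a b ⟨ap, am, h1, h2, rfl, h3, h4⟩ ⟨bp, bm, k1, k2, rfl, k3, k4⟩
    refine ⟨ap + bp, am + bm, IsCharacter.add h1 k1, IsCharacter.add h2 k2, by abel, fun g => ?_,
      fun g => ?_⟩
    · simp [h3, k3]
    · simp only [Pi.add_apply, h4, k4]; ring
  · intro ψ hψ
    have hc : z ∈ Subgroup.center C := Subgroup.mem_center_iff.2 fun g => hz g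
    have h := IsIrrCharacter.apply_center_mul hψ hc z
    have h1 := IsIrrCharacter.apply_one_ne_zero hψ
    rw [hz2] at h
    have h2 : ψ z / ψ 1 = 1 ∨ ψ z / ψ 1 = -1 := by
      refine mul_self_eq_one_iff.1 ?_
      field_simp at h ⊢
      linear_combination -h
    rcases h2 with e | e
    · exact ⟨ψ, 0, IsIrrCharacter.isCharacter hψ, isCharacter_zero, (add_zero _).symm,
        fun g => by rw [IsIrrCharacter.apply_center_mul hψ hc, e, one_mul], fun g => by simp⟩
    · exact ⟨0, ψ, isCharacter_zero, IsIrrCharacter.isCharacter hψ, (zero_add _).symm,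
        fun g => rfl, fun g => by rw [IsIrrCharacter.apply_center_mul hψ hc, e, neg_one_mul]⟩

/-- Replace `f` by a translate with the same action on `S`. -/
def Two.withF (D : Two C) {c : C} (hc : ∀ x ∈ D.S, Commute c x) : Two C :=
  { D with
    f := c * D.f
    f_mem := mul_mem (Subgroup.centralizer_le_normalizer _
      (Subgroup.mem_centralizer_iff.2 fun x hx => (hc x hx).eq.symm)) D.f_mem
    f_w := (hc _ (D.Z_le D.w_mem)).mul_left D.f_w
    f_fpf := fun x hx h => D.f_fpf x hx (by
      have e : c * D.f * x * (c * D.f)⁻¹ = D.f * x * D.f⁻¹ := by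
        have h' := (hc _ ((Subgroup.mem_normalizer_iff.1 D.f_mem x).1 hx)).eq
        calc c * D.f * x * (c * D.f)⁻¹ = c * (D.f * x * D.f⁻¹) * c⁻¹ := by group
          _ = _ := by rw [h', mul_inv_cancel_right]
      rw [e] at h
      exact h)
    f_five := fun x hx => by
      have key : ∀ (n : ℕ) (x : C), x ∈ D.S →
          (c * D.f) ^ n * x * ((c * D.f) ^ n)⁻¹ = D.f ^ n * x * (D.f ^ n)⁻¹ := by
        intro n
        induction n with
        | zero => intro x _; simp
        | succ n ih =>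
          intro x hx
          have hy := D.conj_S hx (n + 1)
          calc (c * D.f) ^ (n + 1) * x * ((c * D.f) ^ (n + 1))⁻¹
              = c * (D.f * ((c * D.f) ^ n * x * ((c * D.f) ^ n)⁻¹) * D.f⁻¹) * c⁻¹ := by
                rw [pow_succ']; generalize (c * D.f) ^ n = a; group
            _ = c * (D.f ^ (n + 1) * x * (D.f ^ (n + 1))⁻¹) * c⁻¹ := by
                rw [ih x hx, pow_succ']; group
            _ = _ := by rw [(hc _ hy).eq, mul_inv_cancel_right]
      rw [key 5 x hx]
      exact D.f_five x hx }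

theorem mem_normalizer_of {R : Subgroup C} {g : C} (h : ∀ r ∈ R, g * r * g⁻¹ ∈ R) :
    g ∈ Subgroup.normalizer (R : Set C) := by
  refine Subgroup.mem_normalizer_iff_map_conj_eq.2 (Subgroup.eq_of_le_of_card_ge ?_
    (Subgroup.card_map_of_injective (MulAut.conj g).injective).ge)
  rintro _ ⟨r, hr, rfl⟩
  exact h r hr

theorem mem_normalizer_commutator {R : Subgroup C} {g : C}
    (hg : g ∈ Subgroup.normalizer (R : Set C)) :
    g ∈ Subgroup.normalizer ((⁅R, R⁆ : Subgroup C) : Set C) := by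
  refine Subgroup.mem_normalizer_iff_map_conj_eq.2 ?_
  rw [Subgroup.map_commutator, Subgroup.mem_normalizer_iff_map_conj_eq.1 hg]

/-- An invariant `p`-group of class two moved by `w`. -/
theorem exists_min (D : Two C) {p : ℕ} (hp : p.Prime) {P : Subgroup C} (hodd : Odd (Nat.card P))
    (hP : IsPGroup p P) (hS : D.S ≤ Subgroup.normalizer (P : Set C))
    (hf : D.f ∈ Subgroup.normalizer (P : Set C)) (hw : ∃ u ∈ P, ¬ Commute u D.w) :
    ∃ M : Min D, M.R ≤ P ∧ ∃ u ∈ M.R, u ≠ 1 := by
  haveI := Fact.mk hp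
  let Cand : Subgroup C → Prop := fun Q => Q ≤ P ∧ D.S ≤ Subgroup.normalizer (Q : Set C) ∧
    D.f ∈ Subgroup.normalizer (Q : Set C) ∧ ∃ u ∈ Q, ¬ Commute u D.w
  obtain ⟨Q, hQ, hmin⟩ := Set.exists_min_image {Q : Subgroup C | Cand Q} (fun Q => Nat.card Q)
    (Set.toFinite _) ⟨P, le_rfl, hS, hf, hw⟩
  obtain ⟨hQP, hQS, hQf, u, hu, huw⟩ := hQ
  have hQodd : Odd (Nat.card Q) := hodd.of_dvd_nat (Subgroup.card_dvd_of_le hQP)
  have hQp : IsPGroup p Q := IsPGroup.of_injective hP (Subgroup.inclusion hQP)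
    (Subgroup.inclusion_injective hQP)
  have hfix : ∀ N : Subgroup C, N < Q → D.S ≤ Subgroup.normalizer (N : Set C) →
      D.f ∈ Subgroup.normalizer (N : Set C) → ∀ x ∈ N, Commute x D.w := fun N hN hNS hNf x hx => by
    by_contra hc
    have := hmin N ⟨hN.le.trans hQP, hNS, hNf, x, hx, hc⟩
    exact hN.ne (Subgroup.eq_of_le_of_card_ge hN.le this)
  have hwQ : D.w ∈ Subgroup.normalizer (Q : Set C) := hQS (D.Z_le D.w_mem)
  have hgen : invGen D.w Q = Q := by
    by_contra hne
    have hc := hfix _ (lt_of_le_of_ne (invGen_le _ _) hne)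
      (fun s hs => mem_normalizer_invGen_of_commute D.w_sq (D.central s hs _ D.w_mem) (hQS hs))
      (mem_normalizer_invGen_of_commute D.w_sq D.f_w hQf)
    obtain ⟨c, hcQ, i, hi, hcw, hiw, rfl⟩ := exists_split D.w_sq hQodd hwQ hu
    exact huw (hcw.mul_left (hc i (mem_invGen hi hiw)))
  have hne : Nontrivial Q := by
    refine ⟨⟨⟨u, hu⟩, 1, fun e => huw ?_⟩⟩
    rw [show u = 1 from Subtype.ext_iff.1 e]
    exact Commute.one_left _
  haveI : Group.IsNilpotent Q := hQp.isNilpotent
  have hlt : ⁅Q, Q⁆ < Q := by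
    have h1 := Group.IsSolvable.commutator_lt_top_of_nontrivial (G := Q)
    have e : (commutator Q).map Q.subtype = ⁅Q, Q⁆ := by
      rw [commutator_def, Subgroup.map_commutator, ← MonoidHom.range_eq_map, Subgroup.range_subtype]
    rw [← e]
    refine lt_of_le_of_ne (Subgroup.map_subtype_le _) fun e' => h1.ne ?_
    refine Subgroup.map_injective Q.subtype_injective ?_
    rw [e', ← MonoidHom.range_eq_map, Subgroup.range_subtype]
  have hcw : ∀ x ∈ ⁅Q, Q⁆, Commute x D.w :=
    hfix _ hlt (fun s hs => mem_normalizer_commutator (hQS hs)) (mem_normalizer_commutator hQf)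
  have hcen : ∀ x ∈ Q, ∀ d ∈ ⁅Q, Q⁆, Commute x d := fun x hx => by
    refine commute_of_le_centralizer D.w_sq hQodd ?_ hcw x (hgen.symm ▸ hx)
    rw [hgen]
    exact fun g hg => mem_normalizer_commutator (Subgroup.le_normalizer hg)
  have hcomm : ∀ a ∈ Q, ∀ b ∈ Q, a * b * a⁻¹ * b⁻¹ ∈ ⁅Q, Q⁆ := fun a ha b hb => by
    have := Subgroup.commutator_mem_commutator ha hb
    rwa [commutatorElement_def] at this
  have hfc : ∀ d ∈ Q, Commute d D.w → ∀ x ∈ Q, Commute d x := by
    intro d hd hdw x hx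
    have hx' : x ∈ invGen D.w Q := hgen.symm ▸ hx
    induction hx' using Subgroup.closure_induction with
    | mem i hi =>
      obtain ⟨hi, hiw⟩ := hi
      set c := i * d * i⁻¹ * d⁻¹ with hc
      have hcN := hcomm i hi d hd
      have h1 : D.w * c * D.w = c := conj_eq_of_commute D.w_sq (hcw c hcN)
      have hdd : D.w * d * D.w = d := conj_eq_of_commute D.w_sq hdw
      have h2 : c = i⁻¹ * d * i * d⁻¹ := by
        rw [← h1, hc, CfsgLib.GW.CaseI.invol_mul D.w_sq, CfsgLib.GW.CaseI.invol_mul D.w_sq,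
          CfsgLib.GW.CaseI.invol_mul D.w_sq, CfsgLib.GW.CaseI.invol_inv D.w_sq,
          CfsgLib.GW.CaseI.invol_inv D.w_sq, hiw, hdd, inv_inv]
      have h3 : i⁻¹ * c * i = c := by
        rw [mul_assoc, ← (hcen i hi c hcN).eq, inv_mul_cancel_left]
      have h4 : c * c = 1 := by
        calc c * c = i⁻¹ * c * i * (i⁻¹ * d * i * d⁻¹) := by rw [h3, ← h2]
          _ = i⁻¹ * (c * d) * i * d⁻¹ := by group
          _ = i⁻¹ * (i * d * i⁻¹) * i * d⁻¹ := by rw [hc, inv_mul_cancel_right]
          _ = 1 := by group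
      have h5 : c = 1 := by
        have hcQ : c ∈ Q := hlt.le hcN
        have h6 : orderOf c ∣ 2 := orderOf_dvd_of_pow_eq_one (by rw [pow_two, h4])
        rcases (Nat.dvd_prime Nat.prime_two).1 h6 with e | e
        · exact orderOf_eq_one_iff.1 e
        · have := Subgroup.orderOf_dvd_natCard Q hcQ
          rw [e] at this
          exact absurd this hQodd.not_two_dvd_nat
      rw [hc, mul_inv_eq_one, mul_inv_eq_iff_eq_mul] at h5
      exact h5.symm
    | one => exact Commute.one_right _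
    | inv y hy ih => exact (ih (invGen_le _ _ hy)).inv_right
    | mul y y' hy hy' ih ih' => exact (ih (invGen_le _ _ hy)).mul_right (ih' (invGen_le _ _ hy'))
  exact ⟨⟨Q, p, hp, hQp, hQodd, hQS, hQf, hgen,
    fun a ha b hb x hx => (hcen x hx _ (hcomm a ha b hb)).symm, hfc⟩, hQP, u, hu,
    fun e => huw (by rw [e]; exact Commute.one_left _)⟩

/-- **The bound, faithful on `L`.** -/
theorem bound_faithful (D : Two C) (L : Subgroup C) [L.Normal] (hL : Odd (Nat.card L)) {χ : C → ℂ}
    (hχ : IsCharacter C χ) (hconst : ∀ u ∈ L, χ (D.z * u) = χ D.z)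
    (hfaith : ∀ u ∈ L, χ u = χ 1 → u = 1) (hne : ∃ u ∈ L, ¬ Commute u D.w) :
    64 ≤ (χ 1 + χ D.z + χ D.w + χ (D.z * D.w)).re ∧
      64 ≤ (χ 1 + χ D.z - χ D.w - χ (D.z * D.w)).re := by
  have hSp : IsPGroup 2 D.S := IsPGroup.of_card (n := 6) (by rw [D.card_S]; norm_num)
  haveI : Group.IsNilpotent D.S := hSp.isNilpotent
  have hsolv : Group.IsSolvable D.S ∨ Group.IsSolvable L := Or.inl inferInstance
  have hSL : D.S ≤ Subgroup.normalizer (L : Set C) := fun x _ => mem_normalizer_of fun r hr =>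
    Subgroup.Normal.conj_mem inferInstance r hr x
  have hcop : (Nat.card D.S).Coprime (Nat.card L) := by
    rw [D.card_S, show 64 = 2 ^ 6 from rfl]
    exact (Nat.coprime_two_left.2 hL).pow_left 6
  -- a prime whose invariant Sylow subgroup is moved by `w`
  obtain ⟨p, hp, P, hP, u, hu, huw⟩ : ∃ p : ℕ, ∃ _ : Fact p.Prime, ∃ P : Sylow p L,
      D.S ≤ Subgroup.normalizer ((P : Subgroup L).map L.subtype : Set C) ∧
      ∃ u ∈ (P : Subgroup L).map L.subtype, ¬ Commute u D.w := by
    by_contra hc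
    push Not at hc
    obtain ⟨u, hu, huw⟩ := hne
    refine huw ?_
    let K : Subgroup L := (Subgroup.centralizer ({D.w} : Set C)).comap L.subtype
    have hK : K = ⊤ := by
      refine Subgroup.eq_top_of_le_card K ?_
      refine Nat.le_of_dvd Nat.card_pos ?_
      refine (Nat.dvd_iff_prime_pow_dvd_dvd _ _).2 fun q k hq hqk => ?_
      haveI := Fact.mk hq
      obtain ⟨Q, hQ⟩ := CfsgLib.CoprimeAct.exists_invariant_sylow hSL hcop hsolv q
      have hQK : (Q : Subgroup L) ≤ K := fun x hx => Subgroup.mem_comap.2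
        (Subgroup.mem_centralizer_singleton_iff.2
          (hc q ⟨hq⟩ Q hQ x (Subgroup.mem_map_of_mem L.subtype hx)).eq)
      exact (Q.pow_dvd_card_of_pow_dvd_card hqk).trans (Subgroup.card_dvd_of_le hQK)
    have := Subgroup.mem_centralizer_singleton_iff.1
      (show u ∈ Subgroup.centralizer ({D.w} : Set C) from
        (hK ▸ Subgroup.mem_top (⟨u, hu⟩ : L) : (⟨u, hu⟩ : L) ∈ K))
    exact this
  set P₀ := (P : Subgroup L).map L.subtype with hP₀
  -- a translate of `f` normalising that subgroup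
  have hfL : D.f ∈ Subgroup.normalizer (L : Set C) := mem_normalizer_of fun r hr =>
    Subgroup.Normal.conj_mem inferInstance r hr D.f
  obtain ⟨Q, hQ⟩ := CfsgLib.CoprimeAct.conj_smul_sylow_map (K := L) hfL P
  have hQS : D.S ≤ Subgroup.normalizer ((Q : Subgroup L).map L.subtype : Set C) := by
    rw [hQ]
    intro s hs
    refine mem_normalizer_of fun r hr => ?_
    rw [Subgroup.mem_pointwise_smul_iff_inv_smul_mem, MulAut.smul_def, MulAut.conj_inv_apply] at hr ⊢
    have := (Subgroup.mem_normalizer_iff.1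
      (hP ((Subgroup.mem_normalizer_iff.1 (inv_mem D.f_mem) s).1 hs)) _).1 hr
    convert this using 1
    group
  obtain ⟨c, hc, hcQ⟩ := CfsgLib.CoprimeAct.invariant_sylow_conj hSL hcop hsolv p Q P hQS hP
  have hcS : ∀ x ∈ D.S, Commute (c : C) x := fun x hx => (Subgroup.mem_centralizer_iff.1 hc x hx).symm
  let D' := D.withF hcS
  have hf' : D'.f ∈ Subgroup.normalizer (P₀ : Set C) := by
    refine mem_normalizer_of fun r hr => ?_
    show (c : C) * D.f * r * ((c : C) * D.f)⁻¹ ∈ P₀
    have h1 : D.f * r * D.f⁻¹ ∈ (Q : Subgroup L).map L.subtype := by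
      rw [hQ]
      exact Subgroup.smul_mem_pointwise_smul r (MulAut.conj D.f) _ hr
    obtain ⟨y, hy, hy'⟩ := h1
    rw [hP₀, ← hcQ]
    refine ⟨c * y * c⁻¹, Subgroup.smul_mem_pointwise_smul y (MulAut.conj c) _ hy, ?_⟩
    show (c : C) * (y : C) * (c : C)⁻¹ = _
    rw [show (y : C) = D.f * r * D.f⁻¹ from hy']
    group
  have hPL : P₀ ≤ L := Subgroup.map_subtype_le _
  obtain ⟨M, hMP, v, hv, hv1⟩ := exists_min D' hp.out
    (hL.of_dvd_nat (Subgroup.card_dvd_of_le hPL)) (P.2.map L.subtype) hP hf' ⟨u, hu, huw⟩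
  have hML : M.R ≤ L := hMP.trans hPL
  -- the two halves
  obtain ⟨φp, φm, hp', hm', hsum, hzp, hzm⟩ := exists_split_char D.z_central D.z_sq hχ
  -- a nontrivial constituent
  obtain ⟨θ, hθ, hθ1, hθm⟩ : ∃ θ : M.R → ℂ, IsIrrCharacter M.R θ ∧ θ ≠ (fun _ => 1) ∧
      classInner (fun r : M.R => χ r) θ ≠ 0 := by
    by_contra hc'
    push Not at hc'
    refine hv1 (hfaith v (hML hv) ?_)
    have h := eq_sum_irr (IsCharacter.isClassFunction (IsCharacter.restrict hχ M.R))
    rw [Finset.sum_eq_single (fun _ : M.R => (1 : ℂ))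
      (fun θ hθ hne => by rw [hc' θ (mem_irrFinset.1 hθ) hne, zero_smul])
      (fun hn => absurd (mem_irrFinset.2 isIrrCharacter_one) hn)] at h
    have e1 := congrFun h ⟨v, hv⟩
    have e2 := congrFun h 1
    simp only [Pi.smul_apply, smul_eq_mul, Subgroup.coe_one] at e1 e2
    rw [e1, e2]
  have hdiff : classInner (fun r : M.R => φp r) θ = classInner (fun r : M.R => φm r) θ := by
    have e : (fun r : M.R => φp r) = (fun r : M.R => φm r) + χ D.z • (fun _ : M.R => (1 : ℂ)) := by
      funext r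
      simp only [Pi.add_apply, Pi.smul_apply, smul_eq_mul, mul_one]
      rw [← hconst r (hML r.2), hsum, Pi.add_apply, hzp, hzm]
      ring
    rw [e, classInner_add_left, classInner_smul_left,
      IsIrrCharacter.classInner_of_ne isIrrCharacter_one hθ (Ne.symm hθ1), mul_zero, add_zero]
  have hne0 : mult M.R φp θ ≠ 0 := by
    intro h0
    obtain ⟨n, hn, hn'⟩ := mult_nat hp' hθ
    rw [hn'] at h0
    rw [Nat.cast_eq_zero] at h0
    rw [h0, Nat.cast_zero] at hn
    refine hθm ?_
    rw [show (fun r : M.R => χ r) = (fun r : M.R => φp r) + fun r : M.R => φm r by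
      funext r; rw [hsum]; rfl, classInner_add_left, ← hdiff, hn, add_zero]
  have hmz : (φm D'.z).re = -(φm 1).re := by
    show (φm D.z).re = _
    have := hzm 1
    rw [mul_one] at this
    rw [this, Complex.neg_re]
  have h32 := M.bound hp' hm' hmz hθ hθ1 (congrArg Complex.re hdiff) hne0
  have hw' : D'.w = D.w := rfl
  rw [hw'] at h32
  have e1 := hzp 1
  have e2 := hzp D.w
  have e3 := hzm 1
  have e4 := hzm D.w
  rw [mul_one] at e1 e3
  have h5 := abs_le.1 (show |(φp D.w).re| ≤ (φp 1).re - 32 by linarith)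
  constructor <;>
    simp only [hsum, Pi.add_apply, e1, e2, e3, e4, Complex.add_re, Complex.sub_re, Complex.neg_re] <;>
    linarith

end CfsgLib.U34Sylow.LB
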