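import Mathlib
import Cfsg.Prelude

/-!
# Local bound: the Sylow 2-subgroup of type U₃(4) inside `C(z)`

`S` has order 64, `Z = {1, z, w, z w}` is its centre and holds all involutions, `f` normalises `S`,
centralises `z` and `w`, and acts on `S / Z` as an element of order five without fixed points.
-/

set_option autoImplicit false
set_option linter.unusedSectionVars false

universe u

namespace CfsgLib.U34Sylow.LB

open Subgroup

/-- The data. -/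
structure Two (C : Type u) [Group C] where
  S : Subgroup C
  Z : Subgroup C
  z : C
  w : C
  f : C
  Z_le : Z ≤ S
  z_mem : z ∈ Z
  w_mem : w ∈ Z
  z_ne : z ≠ 1
  w_ne : w ≠ 1
  zw_ne : z ≠ w
  z_sq : z * z = 1
  w_sq : w * w = 1
  mem_Z : ∀ x ∈ Z, x = 1 ∨ x = z ∨ x = w ∨ x = z * w
  card_S : Nat.card S = 64
  sq_mem : ∀ x ∈ S, x * x ∈ Z
  invol : ∀ x ∈ S, x * x = 1 → x ∈ Z
  central : ∀ x ∈ S, ∀ y ∈ Z, Commute x y
  full : ∀ x ∈ S, x ∉ Z → ∀ y ∈ Z, ∃ v ∈ S, v * x * v⁻¹ * x⁻¹ = y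
  z_central : ∀ c, Commute c z
  f_mem : f ∈ normalizer (S : Set C)
  f_w : Commute f w
  f_fpf : ∀ x ∈ S, f * x * f⁻¹ * x⁻¹ ∈ Z → x ∈ Z
  f_five : ∀ x ∈ S, f ^ 5 * x * (f ^ 5)⁻¹ * x⁻¹ ∈ Z

namespace Two

variable {C : Type u} [Group C] [Finite C] (D : Two C)
include D

theorem mem_S_of_Z {x : C} (hx : x ∈ D.Z) : x ∈ D.S := D.Z_le hx

theorem inv_Z {x : C} (hx : x ∈ D.Z) : x⁻¹ = x := by
  refine inv_eq_of_mul_eq_one_right ?_
  rcases D.mem_Z x hx with rfl | rfl | rfl | rfl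
  · exact one_mul 1
  · exact D.z_sq
  · exact D.w_sq
  · rw [(D.z_central D.w).mul_mul_mul_comm, D.z_sq, D.w_sq, one_mul]

theorem zw_ne_one : D.z * D.w ≠ 1 := fun h => D.zw_ne <| by
  rw [mul_eq_one_iff_eq_inv.1 h, D.inv_Z D.w_mem]

theorem card_Z : Nat.card D.Z = 4 := by
  classical
  have h : (D.Z : Set C) = ({1, D.z, D.w, D.z * D.w} : Finset C) := by
    ext x
    simp only [SetLike.mem_coe, Finset.coe_insert, Finset.coe_singleton, Set.mem_insert_iff,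
      Set.mem_singleton_iff]
    refine ⟨D.mem_Z x, ?_⟩
    rintro (rfl | rfl | rfl | rfl)
    exacts [one_mem _, D.z_mem, D.w_mem, mul_mem D.z_mem D.w_mem]
  rw [← SetLike.coe_sort_coe, Nat.card_coe_set_eq, h, Set.ncard_coe_finset]
  have h1 := D.z_ne; have h2 := D.w_ne; have h3 := D.zw_ne; have h4 := D.zw_ne_one
  simp [Finset.card_insert_of_notMem, h1.symm, h2.symm, h3, h4.symm,
    show D.z ≠ D.z * D.w from fun e => h2 (mul_eq_left.1 e.symm),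
    show D.w ≠ D.z * D.w from fun e => h1 (mul_eq_right.1 e.symm)]

/-- The multiplication table of `Z`. -/
theorem table : D.z * D.z = 1 ∧ D.w * D.w = 1 ∧ D.w * D.z = D.z * D.w ∧
    D.z * (D.z * D.w) = D.w ∧ D.z * D.w * D.z = D.w ∧ D.w * (D.z * D.w) = D.z ∧
    D.z * D.w * D.w = D.z ∧ D.z * D.w * (D.z * D.w) = 1 := by
  have hc := (D.z_central D.w).eq
  refine ⟨D.z_sq, D.w_sq, hc, ?_, ?_, ?_, ?_, ?_⟩
  · rw [← mul_assoc, D.z_sq, one_mul]
  · rw [← hc, mul_assoc, D.z_sq, mul_one]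
  · rw [← mul_assoc, hc, mul_assoc, D.w_sq, mul_one]
  · rw [mul_assoc, D.w_sq, mul_one]
  · rw [(D.z_central D.w).mul_mul_mul_comm, D.z_sq, D.w_sq, one_mul]

/-- Commutators in `S` lie in `Z`. -/
theorem comm_mem {x y : C} (hx : x ∈ D.S) (hy : y ∈ D.S) : x * y * x⁻¹ * y⁻¹ ∈ D.Z := by
  rw [show x * y * x⁻¹ * y⁻¹ = x * x * (x⁻¹ * y * (x⁻¹ * y)) * (y⁻¹ * y⁻¹) by group]
  exact mul_mem (mul_mem (D.sq_mem x hx) (D.sq_mem _ (mul_mem (inv_mem hx) hy)))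
    (D.sq_mem _ (inv_mem hy))

theorem comm_mul_left {v v' x : C} (hv : v ∈ D.S) (hv' : v' ∈ D.S) (hx : x ∈ D.S) :
    v * v' * x * (v * v')⁻¹ * x⁻¹ = (v * x * v⁻¹ * x⁻¹) * (v' * x * v'⁻¹ * x⁻¹) := by
  have h := (D.central v hv _ (D.comm_mem hv' hx)).eq
  have h2 := (D.central (v * x * v⁻¹ * x⁻¹) (D.Z_le (D.comm_mem hv hx)) _ (D.comm_mem hv' hx)).eq
  calc v * v' * x * (v * v')⁻¹ * x⁻¹ = v * (v' * x * v'⁻¹ * x⁻¹) * (x * v⁻¹ * x⁻¹) := by group
    _ = (v' * x * v'⁻¹ * x⁻¹) * (v * x * v⁻¹ * x⁻¹) := by rw [h]; group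
    _ = _ := h2.symm

theorem comm_mul_right {v x y : C} (hv : v ∈ D.S) (hx : x ∈ D.S) (hy : y ∈ D.S) :
    v * (x * y) * v⁻¹ * (x * y)⁻¹ = (v * x * v⁻¹ * x⁻¹) * (v * y * v⁻¹ * y⁻¹) := by
  have h := (D.central x hx _ (D.comm_mem hv hy)).eq
  calc v * (x * y) * v⁻¹ * (x * y)⁻¹
      = (v * x * v⁻¹ * x⁻¹) * (x * (v * y * v⁻¹ * y⁻¹) * x⁻¹) := by group
    _ = _ := by rw [h, mul_inv_cancel_right]

/-- The elements of `S` whose commutator with `x` lies in `⟨u⟩`. -/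
def ker (u : C) (hu : u ∈ D.Z) (x : C) (hx : x ∈ D.S) : Subgroup C where
  carrier := {v | v ∈ D.S ∧ (v * x * v⁻¹ * x⁻¹ = 1 ∨ v * x * v⁻¹ * x⁻¹ = u)}
  one_mem' := ⟨one_mem _, Or.inl (by simp)⟩
  mul_mem' {a b} ha hb := ⟨mul_mem ha.1 hb.1, by
    rw [D.comm_mul_left ha.1 hb.1 hx]
    have hu2 : u * u = 1 := by
      nth_rw 1 [← D.inv_Z hu]
      exact inv_mul_cancel u
    rcases ha.2 with h | h <;> rcases hb.2 with h' | h' <;> rw [h, h'] <;> simp [hu2]⟩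
  inv_mem' {a} ha := ⟨inv_mem ha.1, by
    have h := D.comm_mul_left (inv_mem ha.1) ha.1 hx
    rw [inv_mul_cancel, inv_one, one_mul, mul_one, mul_inv_cancel, eq_comm,
      mul_eq_one_iff_eq_inv, D.inv_Z (D.comm_mem ha.1 hx)] at h
    rw [h]; exact ha.2⟩

theorem mem_ker {u : C} {hu : u ∈ D.Z} {x : C} {hx : x ∈ D.S} {v : C} :
    v ∈ D.ker u hu x hx ↔ v ∈ D.S ∧ (v * x * v⁻¹ * x⁻¹ = 1 ∨ v * x * v⁻¹ * x⁻¹ = u) := Iff.rfl

theorem ker_ne {u : C} (hu : u ∈ D.Z) {x : C} (hx : x ∈ D.S) (hxZ : x ∉ D.Z) :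
    D.ker u hu x hx < D.S := by
  refine lt_of_le_of_ne (fun v hv => (D.mem_ker.1 hv).1) fun e => ?_
  have key : ∀ y ∈ D.Z, y = 1 ∨ y = u := fun y hy => by
    obtain ⟨v, hv, rfl⟩ := D.full x hx hxZ y hy
    exact (D.mem_ker.1 (e ▸ hv : v ∈ D.ker u hu x hx)).2
  have h1 := (key D.z D.z_mem).resolve_left D.z_ne
  have h2 := (key D.w D.w_mem).resolve_left D.w_ne
  exact D.zw_ne (h1.trans h2.symm)

theorem card_le_of_lt {T : Subgroup C} (h : T < D.S) : Nat.card T ≤ 32 := by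
  have h1 := Subgroup.card_dvd_of_le h.le
  rw [D.card_S] at h1
  have h2 : Nat.card T ≠ 64 := fun e => h.ne (Subgroup.eq_of_le_of_card_ge h.le (by rw [e, D.card_S]))
  obtain ⟨k, hk, hk'⟩ := (Nat.dvd_prime_pow Nat.prime_two).1 (show Nat.card T ∣ 2 ^ 6 from h1)
  interval_cases k <;> omega

/-- A subgroup of index at most two has commutators filling `Z`. -/
theorem not_comm_le {T : Subgroup C} (hZT : D.Z ≤ T) (hTS : T ≤ D.S) (hT : 32 ≤ Nat.card T) {u : C}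
    (hu : u ∈ D.Z) (hu1 : u ≠ 1) (h : ∀ x ∈ T, ∀ y ∈ T, x * y * x⁻¹ * y⁻¹ = 1 ∨ x * y * x⁻¹ * y⁻¹ = u) : False := by
  classical
  have hk : ∀ x (hxT : x ∈ T), x ∉ D.Z → D.ker u hu x (hTS hxT) = T := fun x hxT hxZ => by
    refine (Subgroup.eq_of_le_of_card_ge (fun v hv => D.mem_ker.2 ⟨hTS hv, h v hv x hxT⟩) ?_).symm
    exact (D.card_le_of_lt (D.ker_ne hu (hTS hxT) hxZ)).trans hT
  obtain ⟨x, hxT, hxZ⟩ : ∃ x ∈ T, x ∉ D.Z := by
    by_contra hc
    push Not at hc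
    have := Subgroup.card_le_of_le (show T ≤ D.Z from hc)
    rw [D.card_Z] at this; omega
  obtain ⟨y, hyT, hyZ, hxy⟩ : ∃ y ∈ T, y ∉ D.Z ∧ x * y ∉ D.Z := by
    by_contra hc
    push Not at hc
    have hsub : Set.ncard (T : Set C) ≤ Set.ncard ((D.Z : Set C) ∪ (x⁻¹ * ·) '' (D.Z : Set C)) := by
      refine Set.ncard_le_ncard (fun y hy => ?_)
      by_cases hyZ : y ∈ D.Z
      · exact Or.inl hyZ
      · exact Or.inr ⟨x * y, hc y hy hyZ, inv_mul_cancel_left x y⟩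
    have h2 := hsub.trans ((Set.ncard_union_le _ _).trans
      (Nat.add_le_add_left (Set.ncard_image_le) _))
    have eT : Set.ncard (T : Set C) = Nat.card T := rfl
    have eZ : Set.ncard (D.Z : Set C) = Nat.card D.Z := rfl
    rw [eT, eZ, D.card_Z] at h2
    omega
  have hlt := D.ker_ne hu (hTS hxT) hxZ
  rw [hk x hxT hxZ] at hlt
  obtain ⟨v, hvS, hvT⟩ := SetLike.exists_of_lt hlt
  have h1 : ∀ a (haT : a ∈ T), a ∉ D.Z →
      v * a * v⁻¹ * a⁻¹ ≠ 1 ∧ v * a * v⁻¹ * a⁻¹ ≠ u := fun a haT haZ => by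
    constructor <;> intro e <;> refine hvT (?_ : v ∈ T) <;> rw [← hk a haT haZ]
    · exact D.mem_ker.2 ⟨hvS, Or.inl e⟩
    · exact D.mem_ker.2 ⟨hvS, Or.inr e⟩
  obtain ⟨a1, a2⟩ := h1 x hxT hxZ
  obtain ⟨b1, b2⟩ := h1 y hyT hyZ
  obtain ⟨c1, c2⟩ := h1 (x * y) (mul_mem hxT hyT) hxy
  rw [D.comm_mul_right hvS (hTS hxT) (hTS hyT)] at c1 c2
  obtain ⟨t1, t2, t3, t4, t5, t6, t7, t8⟩ := D.table
  rcases D.mem_Z _ hu with rfl | rfl | rfl | rfl
  · exact hu1 rfl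
  all_goals
    rcases D.mem_Z _ (D.comm_mem hvS (hTS hxT)) with e | e | e | e <;>
    rcases D.mem_Z _ (D.comm_mem hvS (hTS hyT)) with e' | e' | e' | e' <;>
    rw [e, e'] at c1 c2 <;> rw [e] at a1 a2 <;> rw [e'] at b1 b2 <;>
    simp_all

/-- An element squaring to `z`, with two commuting-with-it elements whose commutator is `w` up to `z`. -/
theorem exists_special : ∃ x ∈ D.S, x * x = D.z ∧ ∃ y ∈ D.S, ∃ y' ∈ D.S,
    (y * x * y⁻¹ * x⁻¹ = 1 ∨ y * x * y⁻¹ * x⁻¹ = D.z) ∧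
    (y' * x * y'⁻¹ * x⁻¹ = 1 ∨ y' * x * y'⁻¹ * x⁻¹ = D.z) ∧
    (y * y' * y⁻¹ * y'⁻¹ = D.w ∨ y * y' * y⁻¹ * y'⁻¹ = D.z * D.w) := by
  have hbig : ∀ x (hx : x ∈ D.S), 32 ≤ Nat.card (D.ker D.z D.z_mem x hx) := fun x hx => by
    set K := D.ker D.z D.z_mem x hx with hK
    by_cases hKS : D.S ≤ K
    · have := Subgroup.card_le_of_le hKS
      rw [D.card_S] at this; omega
    obtain ⟨v, hv, hvK⟩ := SetLike.not_le_iff_exists.1 hKS
    have hsub : (D.S : Set C) ⊆ (K : Set C) ∪ (v * ·) '' (K : Set C) := fun a ha => by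
      by_cases haK : a ∈ K
      · exact Or.inl haK
      refine Or.inr ⟨v⁻¹ * a, D.mem_ker.2 ⟨mul_mem (inv_mem hv) ha, ?_⟩, mul_inv_cancel_left v a⟩
      have e0 := D.comm_mul_left (inv_mem hv) hv hx
      rw [inv_mul_cancel, inv_one, one_mul, mul_one, mul_inv_cancel, eq_comm,
        mul_eq_one_iff_eq_inv, D.inv_Z (D.comm_mem hv hx)] at e0
      rw [D.comm_mul_left (inv_mem hv) ha hx, e0]
      have key : ∀ b ∈ D.S, b ∉ K → b * x * b⁻¹ * x⁻¹ = D.w ∨ b * x * b⁻¹ * x⁻¹ = D.z * D.w :=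
        fun b hb hbK => by
          rcases D.mem_Z _ (D.comm_mem hb hx) with e | e | e | e
          · exact absurd (D.mem_ker.2 ⟨hb, Or.inl e⟩) hbK
          · exact absurd (D.mem_ker.2 ⟨hb, Or.inr e⟩) hbK
          · exact Or.inl e
          · exact Or.inr e
      have hz := D.z_sq; have hw := D.w_sq
      have hcomm := (D.z_central D.w).eq
      rcases key v hv hvK with e | e <;> rcases key a ha haK with e' | e' <;> rw [e, e']
      · exact Or.inl hw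
      · exact Or.inr (by rw [← mul_assoc, hcomm, mul_assoc, hw, mul_one])
      · exact Or.inr (by rw [mul_assoc, hw, mul_one])
      · exact Or.inl (by rw [mul_assoc, ← mul_assoc D.w, hcomm, mul_assoc, hw, mul_one, hz])
    have h2 := (Set.ncard_le_ncard hsub).trans ((Set.ncard_union_le _ _).trans
      (Nat.add_le_add_left (Set.ncard_image_le) _))
    have eS : Set.ncard (D.S : Set C) = Nat.card D.S := rfl
    have eK : Set.ncard (K : Set C) = Nat.card K := rfl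
    rw [eS, eK, D.card_S] at h2
    omega
  obtain ⟨x, hx, hxz⟩ : ∃ x ∈ D.S, x * x = D.z := by
    obtain ⟨x, hx, hxZ⟩ : ∃ x ∈ D.S, x ∉ D.Z := by
      by_contra hc
      push Not at hc
      have := Subgroup.card_le_of_le (show D.S ≤ D.Z from hc)
      rw [D.card_Z, D.card_S] at this; omega
    by_cases hxz : x * x = D.z
    · exact ⟨x, hx, hxz⟩
    set K := D.ker D.z D.z_mem x hx with hK
    obtain ⟨y, hyK, hyZ, hxy⟩ : ∃ y ∈ K, y ∉ D.Z ∧ x * y ∉ D.Z := by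
      by_contra hc
      push Not at hc
      have hsub : (K : Set C) ⊆ (D.Z : Set C) ∪ (x⁻¹ * ·) '' (D.Z : Set C) := fun y hy => by
        by_cases hyZ : y ∈ D.Z
        · exact Or.inl hyZ
        · exact Or.inr ⟨x * y, hc y hy hyZ, inv_mul_cancel_left x y⟩
      have h2 := (Set.ncard_le_ncard hsub).trans ((Set.ncard_union_le _ _).trans
        (Nat.add_le_add_left (Set.ncard_image_le) _))
      have eK : Set.ncard (K : Set C) = Nat.card K := rfl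
      have eZ : Set.ncard (D.Z : Set C) = Nat.card D.Z := rfl
      rw [eK, eZ, D.card_Z] at h2
      have : 32 ≤ Nat.card K := hbig x hx
      omega
    obtain ⟨hy, hc⟩ := D.mem_ker.1 hyK
    by_cases hyz : y * y = D.z
    · exact ⟨y, hy, hyz⟩
    refine ⟨x * y, mul_mem hx hy, ?_⟩
    have hne : x * y * (x * y) ≠ 1 := fun e => hxy (D.invol _ (mul_mem hx hy) e)
    have hx1 : x * x ≠ 1 := fun e => hxZ (D.invol _ hx e)
    have hy1 : y * y ≠ 1 := fun e => hyZ (D.invol _ hy e)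
    have e : x * y * (x * y) = x * x * (y * y) * (y * x * y⁻¹ * x⁻¹) := by
      have h1 := (D.central x hx _ (D.comm_mem hy hx)).eq
      have h2 := (D.central (x * y * y) (mul_mem (mul_mem hx hy) hy) _ (D.comm_mem hy hx)).eq
      calc x * y * (x * y) = x * ((y * x * y⁻¹ * x⁻¹) * (x * y * y)) := by group
        _ = x * ((x * y * y) * (y * x * y⁻¹ * x⁻¹)) := by rw [h2]
        _ = _ := by group
    rcases D.mem_Z _ (D.sq_mem _ (mul_mem hx hy)) with r | r | r | r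
    · exact absurd r hne
    · exact r
    all_goals
      exfalso
      rw [e] at r
      obtain ⟨t1, t2, t3, t4, t5, t6, t7, t8⟩ := D.table
      have n1 := D.z_ne; have n2 := D.w_ne; have n3 := D.zw_ne; have n4 := D.zw_ne_one
      rcases hc with c | c <;> rw [c] at r <;>
        rcases D.mem_Z _ (D.sq_mem _ hx) with a | a | a | a <;>
        rcases D.mem_Z _ (D.sq_mem _ hy) with b | b | b | b <;>
        simp_all
  have hxZ : x ∉ D.Z := fun h => by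
    have : x * x = 1 := by nth_rw 1 [← D.inv_Z h]; exact inv_mul_cancel x
    exact D.z_ne (hxz ▸ this)
  refine ⟨x, hx, hxz, ?_⟩
  by_contra hc
  push Not at hc
  have hZK : D.Z ≤ D.ker D.z D.z_mem x hx := fun a ha => D.mem_ker.2 ⟨D.Z_le ha, Or.inl (by
    rw [← (D.central x hx a ha).eq, mul_inv_cancel_right, mul_inv_cancel])⟩
  refine D.not_comm_le hZK (fun v hv => (D.mem_ker.1 hv).1) (hbig x hx) D.z_mem D.z_ne fun a ha b hb => ?_
  obtain ⟨ha, ha'⟩ := D.mem_ker.1 ha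
  obtain ⟨hb, hb'⟩ := D.mem_ker.1 hb
  have := hc a ha b hb ha' hb'
  rcases D.mem_Z _ (D.comm_mem ha hb) with e | e | e | e
  · exact Or.inl e
  · exact Or.inr e
  · exact absurd e this.1
  · exact absurd e this.2

theorem conj_Z {x : C} (hx : x ∈ D.Z) (j : ℕ) : D.f ^ j * x * (D.f ^ j)⁻¹ = x := by
  have h : Commute D.f x := by
    rcases D.mem_Z x hx with rfl | rfl | rfl | rfl
    exacts [Commute.one_right _, D.z_central _, D.f_w, (D.z_central _).mul_right D.f_w]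
  rw [(h.pow_left j).eq, mul_inv_cancel_right]

theorem conj_S {x : C} (hx : x ∈ D.S) (j : ℕ) : D.f ^ j * x * (D.f ^ j)⁻¹ ∈ D.S :=
  (Subgroup.mem_normalizer_iff.1 (pow_mem D.f_mem j) x).1 hx

/-- A subgroup containing `Z` invariant under a nontrivial power of `f` is `Z` or `S`. -/
theorem eq_Z_or_S {T : Subgroup C} (hZT : D.Z ≤ T) (hTS : T ≤ D.S) {j : ℕ} (hj : ¬ 5 ∣ j)
    (h : ∀ x ∈ T, D.f ^ j * x * (D.f ^ j)⁻¹ ∈ T) : T = D.Z ∨ T = D.S := by
  classical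
  have hfT : ∀ x ∈ T, D.f * x * D.f⁻¹ ∈ T := by
    obtain ⟨i, hi⟩ : ∃ i, j * i % 5 = 1 := by
      have : j % 5 = 1 ∨ j % 5 = 2 ∨ j % 5 = 3 ∨ j % 5 = 4 := by omega
      rcases this with e | e | e | e
      exacts [⟨1, by omega⟩, ⟨3, by omega⟩, ⟨2, by omega⟩, ⟨4, by omega⟩]
    have hit : ∀ m, ∀ x ∈ T, D.f ^ (j * m) * x * (D.f ^ (j * m))⁻¹ ∈ T := by
      intro m
      induction m with
      | zero => intro x hx; simpa using hx
      | succ m ih =>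
        intro x hx
        rw [show D.f ^ (j * (m + 1)) * x * (D.f ^ (j * (m + 1)))⁻¹ =
          D.f ^ j * (D.f ^ (j * m) * x * (D.f ^ (j * m))⁻¹) * (D.f ^ j)⁻¹ by
            rw [mul_add, mul_one, add_comm, pow_add]; group]
        exact h _ (ih x hx)
    have hfive : ∀ l, ∀ x ∈ D.S, D.f ^ (5 * l) * x * (D.f ^ (5 * l))⁻¹ * x⁻¹ ∈ D.Z := by
      intro l
      induction l with
      | zero => intro x _; simp
      | succ l ih =>
        intro x hx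
        rw [show D.f ^ (5 * (l + 1)) * x * (D.f ^ (5 * (l + 1)))⁻¹ * x⁻¹ =
          D.f ^ 5 * (D.f ^ (5 * l) * x * (D.f ^ (5 * l))⁻¹ * x⁻¹) * (D.f ^ 5)⁻¹ *
            (D.f ^ 5 * x * (D.f ^ 5)⁻¹ * x⁻¹) by
            rw [mul_add, mul_one, add_comm, pow_add]; group, D.conj_Z (ih x hx) 5]
        exact mul_mem (ih x hx) (D.f_five x hx)
    intro x hx
    have h1 := hit i x hx
    obtain ⟨l, hl⟩ : ∃ l, j * i = 1 + 5 * l := ⟨j * i / 5, by omega⟩
    rw [hl, pow_add, pow_one] at h1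
    set y := D.f ^ (5 * l) * x * (D.f ^ (5 * l))⁻¹ * x⁻¹ with hy
    have hyZ : y ∈ D.Z := hfive l x (hTS hx)
    rw [show D.f * D.f ^ (5 * l) * x * (D.f * D.f ^ (5 * l))⁻¹ = D.f * y * D.f⁻¹ * (D.f * x * D.f⁻¹) by
      rw [hy]; group, show D.f * y * D.f⁻¹ = y by simpa using D.conj_Z hyZ 1] at h1
    rwa [Subgroup.mul_mem_cancel_left _ (hZT hyZ)] at h1
  -- the square of `f` as a permutation of `T ∖ Z`
  let σ : {x : C // x ∈ T ∧ x ∉ D.Z} → {x : C // x ∈ T ∧ x ∉ D.Z} := fun x =>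
    ⟨D.f * x * D.f⁻¹, hfT _ x.2.1, fun hZ => x.2.2 (by
      have e : D.f * (D.f * (x : C) * D.f⁻¹) * D.f⁻¹ = D.f * x * D.f⁻¹ := by
        simpa using D.conj_Z hZ 1
      have e' : D.f * (x : C) * D.f⁻¹ = x := mul_left_cancel (mul_right_cancel e)
      exact e' ▸ hZ)⟩
  have hσinj : Function.Injective σ := fun x y e =>
    Subtype.ext (mul_left_cancel (mul_right_cancel (Subtype.ext_iff.1 e)))
  let π : Equiv.Perm {x : C // x ∈ T ∧ x ∉ D.Z} := Equiv.ofBijective σ (Finite.injective_iff_bijective.1 hσinj)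
  have hπ : ∀ m x, ((π ^ m) x : C) = D.f ^ m * x * (D.f ^ m)⁻¹ := by
    intro m
    induction m with
    | zero => intro x; simp
    | succ m ih =>
      intro x
      rw [pow_succ', Equiv.Perm.mul_apply]
      show D.f * ((π ^ m) x : C) * D.f⁻¹ = _
      rw [ih, pow_succ']; group
  have h5 : (π ^ 2) ^ 5 = 1 := by
    refine Equiv.ext fun x => Subtype.ext ?_
    rw [← pow_mul, hπ, Equiv.Perm.one_apply, show 2 * 5 = 5 + 5 from rfl, pow_add]
    set y := D.f ^ 5 * x.1 * (D.f ^ 5)⁻¹ * x.1⁻¹ with hy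
    have hyZ : y ∈ D.Z := D.f_five _ (hTS x.2.1)
    calc D.f ^ 5 * D.f ^ 5 * x.1 * (D.f ^ 5 * D.f ^ 5)⁻¹
        = (D.f ^ 5 * y * (D.f ^ 5)⁻¹) * (D.f ^ 5 * x.1 * (D.f ^ 5)⁻¹ * x.1⁻¹) * x.1 := by
          rw [hy]; group
      _ = x.1 := by
          rw [D.conj_Z hyZ 5, ← hy]
          nth_rw 1 [← D.inv_Z hyZ]
          rw [inv_mul_cancel, one_mul]
  letI : Fintype {x : C // x ∈ T ∧ x ∉ D.Z} := Fintype.ofFinite _
  haveI : Fact (Nat.Prime 5) := ⟨by norm_num⟩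
  have hdvd : 5 ∣ Nat.card {x : C // x ∈ T ∧ x ∉ D.Z} := by
    by_contra hn
    rw [Nat.card_eq_fintype_card] at hn
    obtain ⟨x, hx⟩ := Equiv.Perm.exists_fixed_point_of_prime (p := 5) (n := 1) hn
      (σ := π ^ 2) (by rw [pow_one]; exact h5)
    have h2 : D.f ^ 2 * x.1 * (D.f ^ 2)⁻¹ = x.1 := (hπ 2 x).symm.trans (congrArg Subtype.val hx)
    have h4 : D.f ^ 4 * x.1 * (D.f ^ 4)⁻¹ = x.1 := by
      calc D.f ^ 4 * x.1 * (D.f ^ 4)⁻¹ = D.f ^ 2 * (D.f ^ 2 * x.1 * (D.f ^ 2)⁻¹) * (D.f ^ 2)⁻¹ := by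
            group
        _ = x.1 := by rw [h2, h2]
    set y := D.f ^ 5 * x.1 * (D.f ^ 5)⁻¹ * x.1⁻¹ with hy
    have hf : D.f * x.1 * D.f⁻¹ * x.1⁻¹ = y := by
      rw [hy]
      nth_rw 1 [← h4]
      group
    exact x.2.2 (D.f_fpf _ (hTS x.2.1) (hf ▸ D.f_five _ (hTS x.2.1)))
  have hcard : Nat.card {x : C // x ∈ T ∧ x ∉ D.Z} + 4 = Nat.card T := by
    have := Set.ncard_sdiff_add_ncard_of_subset (show (D.Z : Set C) ⊆ T from hZT)
    rw [show Set.ncard (D.Z : Set C) = Nat.card D.Z from rfl, D.card_Z] at this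
    exact this
  have h1 := Subgroup.card_dvd_of_le hTS
  rw [D.card_S] at h1
  obtain ⟨k, hk, hk'⟩ := (Nat.dvd_prime_pow Nat.prime_two).1 (show Nat.card T ∣ 2 ^ 6 from h1)
  by_cases h4 : Nat.card T ≤ 4
  · exact Or.inl (Subgroup.eq_of_le_of_card_ge hZT (by rw [D.card_Z]; exact h4)).symm
  · refine Or.inr (Subgroup.eq_of_le_of_card_ge hTS ?_)
    rw [D.card_S]
    interval_cases k <;> omega

end Two

end CfsgLib.U34Sylow.LB
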